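/-
The map from the vector model of `Ω⁺₈(3)` onto the Chevalley group of type `D₄` over three elements.
-/
import Cfsg.Agent.Lib.OutPlus.Main

set_option autoImplicit false
set_option maxRecDepth 100000

namespace CfsgLib.OEightThree

open Cfsg Cfsg.Lie Matrix CfsgLib.ChevClassical

/-- The root indices. -/
abbrev Root : Type := Fin Cfsg.Lie.chevD4.nroots

/-- The coordinates. -/
abbrev I : Type := ChevClassical.D4.I

/-- The Chevalley group. -/
abbrev T : Type := ↥(Cfsg.Lie.chevD4.group (ZMod 3))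

/-- The vector model. -/
abbrev Om : Type := ↥(Tab.Em ChevClassical.D4.ok (ZMod 3))

/-- A root element of the model. -/
noncomputable def ym (r : Root) (t : ZMod 3) : Om :=
  ⟨Tab.y ChevClassical.D4.ok (ZMod 3) r t, Subgroup.subset_closure ⟨r, t, rfl⟩⟩

/-- A root element of the Chevalley group. -/
noncomputable def et (r : Root) (t : ZMod 3) : T := CfsgLib.Chev.chevD4.eg r t

theorem xg_spec (r : Root) (t : ZMod 3) :
    ((et r t : GL Cfsg.Lie.chevD4.Idx (ZMod 3)) : Matrix _ _ (ZMod 3)) = Cfsg.Lie.chevD4.xMat (ZMod 3) r t := by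
  rw [et, Chev.Chev.eg_val, Chev.Alg.xg_val]
  exact (CfsgLib.Chev.chevD4.xMat_eq (ZMod 3) r t).symm

theorem hgen (r : Root) (t : ZMod 3) :
    ∃ x : GL Cfsg.Lie.chevD4.Idx (ZMod 3), (x : Matrix _ _ (ZMod 3)) = Cfsg.Lie.chevD4.xMat (ZMod 3) r t :=
  ⟨_, xg_spec r t⟩

theorem t_simple : IsSimpleGroup T ∧ ¬ IsMulCommutative T :=
  CfsgLib.Chev.simple_of_conn CfsgLib.Chev.chevD4 CfsgLib.Chev.connD4 ⟨0, by decide⟩
    (CfsgLib.Chev.perfect_of_mem (by simp) fun h => by
      rcases h with h | h <;> exact absurd (congrArg ChevalleyDatum.rank h) (by decide))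

/-- The pairs of the map. -/
def Comp (x : T) (h : Om) : Prop :=
  Tab.Compat (T := ChevClassical.D4.tab) (ZMod 3) (x : GL Cfsg.Lie.chevD4.Idx (ZMod 3)) h.1

theorem eval_entry {ι : Type} [Fintype ι] [DecidableEq ι] (p q : ι) (L : List (Ent ι)) : eval (1 : ZMod 3) L p q =
    (((L.filter fun e => e.2.1 == p && e.2.2.1 == q).map (fun e => e.2.2.2)).sum : ℤ) := by
  induction L with
  | nil => simp
  | cons e L ih =>
    rw [eval_cons, Matrix.add_apply, ih, List.filter_cons]
    by_cases h : e.2.1 = p ∧ e.2.2.1 = q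
    · simp [h.1, h.2]
    · rcases not_and_or.1 h with h | h
      · simp [h, Matrix.single_apply_of_row_ne h]
      · simp [h, Matrix.single_apply_of_col_ne _ _ h]

theorem compat_one_eq {x : T} (hx : Comp x 1) : x = 1 := by
  haveI := t_simple.1
  let K : Subgroup T :=
    { carrier := {x | Comp x 1}
      mul_mem' := fun {a b} ha hb => by simpa [Comp] using Tab.Compat.mul (ZMod 3) ha hb
      one_mem' := Tab.compat_one (ZMod 3)
      inv_mem' := fun {a} ha => by simpa [Comp] using Tab.Compat.inv (ZMod 3) ha }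
  haveI : K.Normal := ⟨fun a ha g => by
    obtain ⟨h, -, hc⟩ := Tab.exists_y ChevClassical.D4.ok (ZMod 3) g.1 g.2
    have := ((hc.mul (ZMod 3) ha).mul (ZMod 3) (hc.inv (ZMod 3)))
    show Comp (g * a * g⁻¹) 1
    simpa [Comp] using this⟩
  rcases Subgroup.Normal.eq_bot_or_eq_top (H := K) inferInstance with hK | hK
  · have : x ∈ K := hx
    rwa [hK] at this
  · exfalso
    obtain ⟨r, hr⟩ := ChevClassical.D4.ok.movedOK
    have h1 : Comp (et r 1) 1 := (hK ▸ Subgroup.mem_top (et r 1) : et r 1 ∈ K)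
    have h2 := Tab.Compat.mul (ZMod 3) (Tab.Compat.inv (ZMod 3) h1)
      (Tab.compat_y ChevClassical.D4.ok (ZMod 3) r 1 _ (xg_spec r 1))
    simp only [OneMemClass.coe_one, inv_one, one_mul, inv_mul_cancel] at h2
    obtain ⟨c, hc⟩ := Tab.scalar_of_trivial ChevClassical.D4.ok (ZMod 3) h2
    have h3 := congrFun (congrFun hc ChevClassical.D4.tab.moved.1) ChevClassical.D4.tab.moved.2
    rw [Tab.y_val, Tab.Y, eval_append, Tab.eval_one ChevClassical.D4.ok] at h3
    simp [ChevClassical.D4.ok.movedNe] at h3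
    rw [eval_entry] at h3
    simp only [List.mem_cons, List.not_mem_nil, or_false] at hr
    rcases hr with hr | hr <;> rw [hr] at h3 <;> simp at h3

theorem comp_unique {a b : T} {h : Om} (ha : Comp a h) (hb : Comp b h) : a = b := by
  rw [← inv_mul_eq_one]
  refine compat_one_eq ?_
  simpa [Comp] using Tab.Compat.mul (ZMod 3) (Tab.Compat.inv (ZMod 3) ha) hb

theorem exists_comp (h : Om) : ∃ x : T, Comp x h := by
  obtain ⟨x, hx, hc⟩ := Tab.exists_x ChevClassical.D4.ok (ZMod 3) hgen h.1 h.2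
  exact ⟨⟨x, hx⟩, hc⟩

/-- The map onto the Chevalley group. -/
noncomputable def pj : Om →* T :=
  MonoidHom.mk' (fun h => (exists_comp h).choose) fun a b =>
    comp_unique (exists_comp (a * b)).choose_spec
      (by simpa [Comp] using Tab.Compat.mul (ZMod 3) (exists_comp a).choose_spec (exists_comp b).choose_spec)

theorem pj_eq {x : T} {h : Om} (hc : Comp x h) : pj h = x := comp_unique (exists_comp h).choose_spec hc

theorem pj_ym (r : Root) (t : ZMod 3) : pj (ym r t) = et r t :=
  pj_eq (Tab.compat_y ChevClassical.D4.ok (ZMod 3) r t _ (xg_spec r t))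

theorem pj_surjective : Function.Surjective pj := fun x => by
  obtain ⟨h, hh, hc⟩ := Tab.exists_y ChevClassical.D4.ok (ZMod 3) x.1 x.2
  exact ⟨⟨h, hh⟩, pj_eq hc⟩

theorem pj_kernel {h : Om} (hh : pj h = 1) : ∃ c : ZMod 3, (h.1 : Matrix I I (ZMod 3)) = c • 1 := by
  have h1 : Comp (pj h) h := (exists_comp h).choose_spec
  rw [hh] at h1
  exact Tab.scalar_of_trivial ChevClassical.D4.ok (ZMod 3) h1

end CfsgLib.OEightThree
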