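/-
Evaluation of words in root elements, with a row stored as two planes of bits.
-/
import Cfsg.Agent.Lib.OEightThree.Model

set_option autoImplicit false
set_option maxRecDepth 100000

namespace CfsgLib.OEightThree

open Cfsg Cfsg.Lie Matrix CfsgLib.ChevClassical

/-- A letter: the number of a root and whether the parameter is `2`. -/
abbrev Letter : Type := ℕ × Bool

/-- A row operation: target, source, sign. -/
abbrev Op : Type := ℕ × ℕ × Bool

/-- The two row operations of a root element. -/
def ops : ℕ → Op × Op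
  | 0 => ((4, 1, true), (5, 0, false))
  | 1 => ((4, 2, true), (6, 0, false))
  | 2 => ((3, 0, false), (4, 7, true))
  | 3 => ((4, 3, true), (7, 0, false))
  | 4 => ((2, 0, true), (4, 6, false))
  | 5 => ((1, 0, false), (4, 5, true))
  | 6 => ((5, 2, false), (6, 1, true))
  | 7 => ((3, 1, true), (5, 7, false))
  | 8 => ((5, 3, false), (7, 1, true))
  | 9 => ((2, 1, false), (5, 6, true))
  | 10 => ((3, 2, false), (6, 7, true))
  | 11 => ((6, 3, true), (7, 2, false))
  | 12 => ((2, 7, false), (3, 6, true))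
  | 13 => ((2, 3, false), (7, 6, true))
  | 14 => ((1, 2, false), (6, 5, true))
  | 15 => ((1, 7, true), (3, 5, false))
  | 16 => ((1, 3, true), (7, 5, false))
  | 17 => ((1, 6, true), (2, 5, false))
  | 18 => ((0, 1, false), (5, 4, true))
  | 19 => ((0, 2, true), (6, 4, false))
  | 20 => ((0, 7, false), (3, 4, true))
  | 21 => ((0, 3, false), (7, 4, true))
  | 22 => ((0, 6, false), (2, 4, true))
  | _ => ((0, 5, false), (1, 4, true))

/-- The position with a given number. -/
def pos : ℕ → I
  | 0 => .inl 0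
  | 1 => .inl 1
  | 2 => .inl 2
  | 3 => .inl 3
  | 4 => .inr 0
  | 5 => .inr 1
  | 6 => .inr 2
  | _ => .inr 3

/-- The number of a position. -/
def num (i : I) : ℕ := (ChevClassical.D4.code i).val

/-- An operation as a table entry. -/
def toEnt (e : Op) : Ent I := (1, pos e.1, pos e.2.1, bif e.2.2 then -1 else 1)

/-- The root with a given number. -/
def root (n : ℕ) : Root := if h : n < 24 then (⟨n, h⟩ : Fin 24) else (⟨23, by decide⟩ : Fin 24)

theorem ops_table : ∀ r : Root, ChevClassical.D4.tab.A r = [toEnt (ops r.val).1, toEnt (ops r.val).2] ∧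
    (ops r.val).1.1 ≠ (ops r.val).2.1 ∧ (ops r.val).1.1 < 8 ∧ (ops r.val).1.2.1 < 8 ∧
    (ops r.val).2.1 < 8 ∧ (ops r.val).2.2.1 < 8 := by
  decide +kernel

theorem num_pos : ∀ n, n < 8 → num (pos n) = n := by decide +kernel

theorem pos_num : ∀ i : I, pos (num i) = i := by decide +kernel

theorem num_lt (i : I) : num i < 8 := (ChevClassical.D4.code i).isLt

/-- The value of a pair of bits. -/
def tri (x : Bool × Bool) : ZMod 3 := bif x.1 then 1 else bif x.2 then 2 else 0

/-- The pair of bits at a column. -/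
def dig (a j : ℕ) : Bool × Bool := (a.testBit j, a.testBit (j + 8))

/-- Negation of a row. -/
def rneg (a : ℕ) : ℕ := Nat.lor (Nat.land (a >>> 8) 255) ((Nat.land a 255) <<< 8)

/-- Sum of two rows. -/
def radd (a b : ℕ) : ℕ :=
  let a1 := Nat.land a 255
  let a2 := Nat.land (a >>> 8) 255
  let b1 := Nat.land b 255
  let b2 := Nat.land (b >>> 8) 255
  let t := Nat.xor (Nat.lor a1 b2) (Nat.lor a2 b1)
  Nat.lor (Nat.xor (Nat.lor a2 b2) t) ((Nat.xor (Nat.lor a1 b1) t) <<< 8)

/-- Sum of two pairs of bits. -/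
def dadd (x y : Bool × Bool) : Bool × Bool :=
  let t := xor (x.1 || y.2) (x.2 || y.1)
  (xor (x.2 || y.2) t, xor (x.1 || y.1) t)

theorem tri_dadd : ∀ x y : Bool × Bool, (x.1 && x.2) = false → (y.1 && y.2) = false →
    tri (dadd x y) = tri x + tri y ∧ ((dadd x y).1 && (dadd x y).2) = false := by
  decide +kernel

theorem tri_swap : ∀ x : Bool × Bool, (x.1 && x.2) = false → tri (x.2, x.1) = - tri x := by decide +kernel

theorem tb255 (j : ℕ) : (255 : ℕ).testBit j = decide (j < 8) := by
  rw [show (255 : ℕ) = 2 ^ 8 - 1 by norm_num, Nat.testBit_two_pow_sub_one]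

theorem dig_rneg (a j : ℕ) (hj : j < 8) : dig (rneg a) j = ((dig a j).2, (dig a j).1) := by
  refine Prod.ext ?_ ?_ <;>
    · show Nat.testBit (Nat.land (a >>> 8) 255 ||| (Nat.land a 255) <<< 8) _ = Nat.testBit a _
      rw [Nat.testBit_or, Nat.testBit_shiftLeft]
      change ((a >>> 8 &&& 255).testBit _ || _ && (a &&& 255).testBit _) = _
      simp [Nat.testBit_and, tb255, hj, Nat.testBit_shiftRight, add_comm 8]

theorem dig_radd (a b j : ℕ) (hj : j < 8) : dig (radd a b) j = dadd (dig a j) (dig b j) := by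
  have h1 : ¬ (8 ≤ j) := not_le.mpr hj
  refine Prod.ext ?_ ?_ <;>
    simp [radd, dig, dadd, Nat.testBit_shiftLeft, Nat.testBit_shiftRight, add_comm 8, tb255, hj, h1]

/-- A row with no column holding both bits. -/
def RowOK (a : ℕ) : Prop := ∀ j, j < 8 → ((dig a j).1 && (dig a j).2) = false

/-- A signed row. -/
def sg (b : Bool) (a : ℕ) : ℕ := bif b then rneg a else a

theorem sg_spec (b : Bool) (a : ℕ) (ha : RowOK a) (j : ℕ) (hj : j < 8) :
    tri (dig (sg b a) j) = (bif b then -1 else 1) * tri (dig a j) ∧ RowOK (sg b a) := by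
  cases b
  · exact ⟨by simp [sg], ha⟩
  · refine ⟨?_, fun k hk => ?_⟩
    · simp only [sg, cond_true, dig_rneg a j hj, tri_swap _ (ha j hj)]; ring
    · have := ha k hk
      simp only [sg, cond_true, dig_rneg a k hk]
      rwa [Bool.and_comm]

theorem radd_spec (a b : ℕ) (ha : RowOK a) (hb : RowOK b) (j : ℕ) (hj : j < 8) :
    tri (dig (radd a b) j) = tri (dig a j) + tri (dig b j) ∧ RowOK (radd a b) := by
  refine ⟨?_, fun k hk => ?_⟩
  · rw [dig_radd a b j hj]; exact (tri_dadd _ _ (ha j hj) (hb j hj)).1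
  · rw [dig_radd a b k hk]; exact (tri_dadd _ _ (ha k hk) (hb k hk)).2

/-- Left multiplication of a stored matrix by a root element. -/
def ap (l : Letter) (M : List ℕ) : List ℕ :=
  let o := ops l.1
  (M.set o.1.1 (radd (M.getD o.1.1 0) (sg (xor o.1.2.2 l.2) (M.getD o.1.2.1 0)))).set o.2.1
    (radd (M.getD o.2.1 0) (sg (xor o.2.2.2 l.2) (M.getD o.2.2.1 0)))

/-- The matrix of a stored matrix. -/
def dec (M : List ℕ) : Matrix I I (ZMod 3) := fun i j => tri (dig (M.getD (num i) 0) (num j))

/-- A well-formed stored matrix. -/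
def Good (M : List ℕ) : Prop := M.length = 8 ∧ ∀ i, i < 8 → RowOK (M.getD i 0)

/-- The parameter of a letter. -/
def par (b : Bool) : ZMod 3 := bif b then -1 else 1

/-- The element of a letter. -/
noncomputable def gl (l : Letter) : Om := ym (root l.1) (par l.2)

/-- The element of a word. -/
noncomputable def gw (w : List Letter) : Om := (w.map gl).prod

theorem ap_spec (l : Letter) (hl : l.1 < 24) (M : List ℕ) (hM : Good M) :
    dec (ap l M) = ((gl l).1 : Matrix I I (ZMod 3)) * dec M ∧ Good (ap l M) := by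
  obtain ⟨n, s⟩ := l
  obtain ⟨hlen, hrow⟩ := hM
  have hr : root n = (⟨n, hl⟩ : Fin 24) := dif_pos hl
  obtain ⟨hA, hne, h1, h2, h3, h4⟩ := ops_table ⟨n, hl⟩
  simp only at hA hne h1 h2 h3 h4
  have hy : ((gl (n, s)).1 : Matrix I I (ZMod 3)) =
      1 + eval (par s) [toEnt (ops n).1, toEnt (ops n).2] := by
    show ((Tab.y ChevClassical.D4.ok (ZMod 3) (root n) (par s)).val : Matrix I I (ZMod 3)) = _
    rw [Tab.y_val, Tab.Y, eval_append, Tab.eval_one ChevClassical.D4.ok, hr]
    exact congrArg (fun L => (1 : Matrix I I (ZMod 3)) + eval (par s) L) hA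
  have hsign : ∀ b : Bool, (((bif b then -1 else 1 : ℤ)) : ZMod 3) * par s ^ 1 = bif xor b s then -1 else 1 := by
    intro b; cases b <;> cases s <;> simp [par]
  refine ⟨?_, ?_⟩
  · rw [hy]
    ext i j
    have hi := num_lt i
    have hj := num_lt j
    have single : ∀ (a b : ℕ) (c : ZMod 3), a < 8 → (Matrix.single (pos a) (pos b) c * dec M : Matrix I I (ZMod 3)) i j =
        if num i = a then c * dec M (pos b) j else 0 := by
      intro a b c ha
      by_cases h : num i = a
      · rw [if_pos h, show i = pos a by rw [← h, pos_num], Matrix.single_mul_apply_same]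
      · rw [if_neg h, Matrix.single_mul_apply_of_ne]
        exact fun e => h (by rw [e, num_pos a ha])
    rw [Matrix.add_mul, Matrix.one_mul, Matrix.add_apply]
    simp only [eval, toEnt, Matrix.add_mul, Matrix.add_apply, single _ _ _ h1, single _ _ _ h3, Matrix.zero_mul,
      Matrix.zero_apply, add_zero, hsign]
    simp only [dec, ap, num_pos _ h2, num_pos _ h4]
    by_cases e2 : num i = (ops n).2.1
    · rw [if_neg (fun e => hne (e.symm.trans e2)), if_pos e2, zero_add, List.getD_eq_getElem?_getD, e2,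
        List.getElem?_set_self (by simp [hlen, h3]), Option.getD_some]
      rw [(radd_spec _ _ (hrow _ h3) (sg_spec _ _ (hrow _ h4) (num j) hj).2 (num j) hj).1,
        (sg_spec _ _ (hrow _ h4) (num j) hj).1]
    · by_cases e1 : num i = (ops n).1.1
      · rw [if_pos e1, if_neg e2, add_zero, List.getD_eq_getElem?_getD, List.getElem?_set_ne (Ne.symm e2), e1,
          List.getElem?_set_self (by rw [hlen]; exact h1), Option.getD_some]
        rw [(radd_spec _ _ (hrow _ h1) (sg_spec _ _ (hrow _ h2) (num j) hj).2 (num j) hj).1,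
          (sg_spec _ _ (hrow _ h2) (num j) hj).1]
      · rw [if_neg e1, if_neg e2, add_zero, add_zero, List.getD_eq_getElem?_getD,
          List.getElem?_set_ne (Ne.symm e2), List.getElem?_set_ne (Ne.symm e1), ← List.getD_eq_getElem?_getD]
  · refine ⟨by simp [ap, hlen], fun i hi => ?_⟩
    rw [ap, List.getD_eq_getElem?_getD]
    by_cases e2 : i = (ops n).2.1
    · rw [e2, List.getElem?_set_self (by simp [hlen, h3]), Option.getD_some]
      exact (radd_spec _ _ (hrow _ h3) (sg_spec _ _ (hrow _ h4) 0 (by omega)).2 0 (by omega)).2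
    · rw [List.getElem?_set_ne (Ne.symm e2)]
      by_cases e1 : i = (ops n).1.1
      · rw [e1, List.getElem?_set_self (by rw [hlen]; exact h1), Option.getD_some]
        exact (radd_spec _ _ (hrow _ h1) (sg_spec _ _ (hrow _ h2) 0 (by omega)).2 0 (by omega)).2
      · rw [List.getElem?_set_ne (Ne.symm e1), ← List.getD_eq_getElem?_getD]
        exact hrow i hi

/-- The stored identity. -/
def I0 : List ℕ := [1, 2, 4, 8, 16, 32, 64, 128]

theorem I0_good : Good I0 := by
  refine ⟨rfl, ?_⟩
  unfold RowOK
  decide +kernel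

theorem dec_I0 : dec I0 = 1 := by
  have h : ∀ a b : Fin 8, tri (dig (I0.getD a.val 0) b.val) = if a = b then (1 : ZMod 3) else 0 := by decide +kernel
  ext i j
  rw [Matrix.one_apply]
  refine (h ⟨num i, num_lt i⟩ ⟨num j, num_lt j⟩).trans ?_
  refine if_congr ⟨fun e => ?_, fun e => by subst e; rfl⟩ rfl rfl
  rw [← pos_num i, ← pos_num j, show num i = num j from congrArg Fin.val e]

/-- The stored value of a word. -/
def evalW (w : List Letter) : List ℕ := w.foldr ap I0

/-- All letters are roots. -/
def wordOK (w : List Letter) : Bool := w.all fun l => decide (l.1 < 24)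

theorem evalW_spec : ∀ w : List Letter, wordOK w = true →
    dec (evalW w) = ((gw w).1 : Matrix I I (ZMod 3)) ∧ Good (evalW w)
  | [], _ => by simp [evalW, gw, dec_I0, I0_good]
  | l :: w, h => by
    simp only [wordOK, List.all_cons, Bool.and_eq_true, decide_eq_true_eq] at h
    obtain ⟨e, g⟩ := evalW_spec w (by simpa [wordOK] using h.2)
    obtain ⟨e', g'⟩ := ap_spec l h.1 _ g
    refine ⟨?_, g'⟩
    show dec (ap l (evalW w)) = _
    rw [e', e]
    rfl

theorem gw_append (u v : List Letter) : gw (u ++ v) = gw u * gw v := by simp [gw]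

/-- Equality of two words. -/
def wEq (u v : List Letter) : Bool := wordOK u && wordOK v && (evalW u == evalW v)

theorem gw_of_wEq {u v : List Letter} (h : wEq u v = true) : gw u = gw v := by
  simp only [wEq, Bool.and_eq_true, beq_iff_eq] at h
  refine Subtype.ext (Units.ext ?_)
  rw [← (evalW_spec u h.1.1).1, ← (evalW_spec v h.1.2).1, h.2]

end CfsgLib.OEightThree
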