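/-
Certificates for the elements of order three of `Ω⁺₈(3)`; produced by tools/stemsylow/oeight.
-/
import Cfsg.Agent.Lib.OEightThree.Word

set_option autoImplicit false
set_option maxRecDepth 100000

namespace CfsgLib.OEightThree

/-- Words coded as lists of numbers. -/
def dw (l : List ℕ) : List Letter := l.map fun n => (n / 2, n % 2 == 1)

/-- The positive roots by height. -/
def order : List ℕ := [12, 13, 14, 18, 15, 16, 19, 17, 20, 21, 22, 23]

/-- The normalising words. -/
def gens : List (List ℕ) := [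
  [24],
  [25],
  [26],
  [27],
  [28],
  [29],
  [36],
  [37],
  [30],
  [31],
  [32],
  [33],
  [38],
  [39],
  [34],
  [35],
  [40],
  [41],
  [42],
  [43],
  [44],
  [45],
  [46],
  [47],
  [36,11,36,36,11,36],
  [28,19,28,28,19,28],
  [26,21,26,26,21,26],
  [24,23,24,24,23,24]]

/-- Conjugates of root elements by the normalising words. -/
def norms : List (List (List ℕ)) := [
  [[24],[26],[28,30],[36],[30],[32,34],[38,40],[34],[40],[42,44],[44],[46]],
  [[24],[26],[28,31],[36],[30],[32,35],[38,41],[34],[40],[42,45],[44],[46]],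
  [[24],[26],[28,32],[36],[30,34],[32],[38,42],[34],[40,44],[42],[44],[46]],
  [[24],[26],[28,33],[36],[30,35],[32],[38,43],[34],[40,45],[42],[44],[46]],
  [[24,31],[26,33],[28],[36,38],[30],[32],[38],[34],[40],[42],[44,46],[46]],
  [[24,30],[26,32],[28],[36,39],[30],[32],[38],[34],[40],[42],[44,47],[46]],
  [[24],[26],[28,39],[36],[30,41],[32,43],[38],[34,45],[40],[42],[44],[46]],
  [[24],[26],[28,38],[36],[30,40],[32,42],[38],[34,44],[40],[42],[44],[46]],
  [[24],[26,35],[28],[36,40],[30],[32],[38],[34],[40],[42,47],[44],[46]],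
  [[24],[26,34],[28],[36,41],[30],[32],[38],[34],[40],[42,46],[44],[46]],
  [[24,35],[26],[28],[36,42],[30],[32],[38],[34],[40,47],[42],[44],[46]],
  [[24,34],[26],[28],[36,43],[30],[32],[38],[34],[40,46],[42],[44],[46]],
  [[24,41],[26,43],[28],[36],[30],[32],[38],[34,47],[40],[42],[44],[46]],
  [[24,40],[26,42],[28],[36],[30],[32],[38],[34,46],[40],[42],[44],[46]],
  [[24],[26],[28],[36,44],[30],[32],[38,46],[34],[40],[42],[44],[46]],
  [[24],[26],[28],[36,45],[30],[32],[38,47],[34],[40],[42],[44],[46]],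
  [[24],[26,45],[28],[36],[30],[32,46],[38],[34],[40],[42],[44],[46]],
  [[24],[26,44],[28],[36],[30],[32,47],[38],[34],[40],[42],[44],[46]],
  [[24,45],[26],[28],[36],[30,46],[32],[38],[34],[40],[42],[44],[46]],
  [[24,44],[26],[28],[36],[30,47],[32],[38],[34],[40],[42],[44],[46]],
  [[24],[26],[28,47],[36],[30],[32],[38],[34],[40],[42],[44],[46]],
  [[24],[26],[28,46],[36],[30],[32],[38],[34],[40],[42],[44],[46]],
  [[24],[26],[28],[36],[30],[32],[38],[34],[40],[42],[44],[46]],
  [[24],[26],[28],[36],[30],[32],[38],[34],[40],[42],[44],[46]],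
  [[24],[26],[29],[36],[31],[33],[39],[35],[41],[43],[45],[46]],
  [[25],[27],[28],[37],[31],[33],[39],[34],[40],[42],[45],[47]],
  [[24],[26],[29],[36],[31],[33],[39],[35],[41],[43],[45],[46]],
  [[24],[26],[29],[36],[31],[33],[39],[35],[41],[43],[45],[46]]]

/-- The supports. -/
def masks : List (List ℕ) := [
  [254, 252, 248, 112, 0, 16, 48, 112],
  [254, 252, 56, 48, 0, 16, 48, 112],
  [254, 252, 48, 48, 0, 16, 48, 48],
  [254, 248, 48, 48, 0, 16, 16, 48],
  [252, 248, 48, 48, 0, 0, 16, 48],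
  [252, 88, 48, 16, 0, 0, 16, 48],
  [252, 80, 48, 16, 0, 0, 16, 16],
  [248, 80, 48, 16, 0, 0, 0, 16],
  [248, 16, 16, 16, 0, 0, 0, 16],
  [104, 16, 16, 0, 0, 0, 0, 16],
  [96, 16, 16, 0, 0, 0, 0, 0],
  [32, 16, 0, 0, 0, 0, 0, 0],
  [0, 0, 0, 0, 0, 0, 0, 0]]

end CfsgLib.OEightThree
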