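/-
Certificates for the elements of order three of `Ω⁺₈(3)`; produced by tools/stemsylow/oeight.
-/
import Cfsg.Agent.Lib.OEightThree.DataBase

set_option autoImplicit false
set_option maxRecDepth 100000

namespace CfsgLib.OEightThree

/-- Representatives at step 0. -/
def reps0 : List (List ℕ) := [
  [],
  [24]]

/-- Certificates at step 0. -/
def steps0 : List (Option (ℕ × List ℕ × List ℕ)) := [
  some (0,[],[]),
  some (1,[],[]),
  some (1,[25],[])]

/-- Representatives at step 1. -/
def reps1 : List (List ℕ) := [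
  [],
  [26],
  [24],
  [24,26],
  [24,27]]

/-- Certificates at step 1. -/
def steps1 : List (Option (ℕ × List ℕ × List ℕ)) := [
  some (0,[],[]),
  some (1,[],[]),
  some (1,[25],[]),
  some (2,[],[]),
  some (3,[],[]),
  some (4,[],[])]

/-- Representatives at step 2. -/
def reps2 : List (List ℕ) := [
  [],
  [28],
  [26],
  [26,28],
  [24],
  [24,28],
  [24,26],
  [24,26,28],
  [24,27],
  [24,27,28]]

/-- Certificates at step 2. -/
def steps2 : List (Option (ℕ × List ℕ × List ℕ)) := [
  some (0,[],[]),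
  some (1,[],[]),
  some (1,[24],[]),
  some (2,[],[]),
  some (3,[],[]),
  some (3,[24],[]),
  some (4,[],[]),
  some (5,[],[]),
  some (5,[24],[]),
  some (6,[],[]),
  some (7,[],[]),
  some (7,[24],[]),
  some (8,[],[]),
  some (9,[],[]),
  some (9,[24],[])]

/-- Representatives at step 3. -/
def reps3 : List (List ℕ) := [
  [],
  [36],
  [28],
  [28,36],
  [26],
  [26,36],
  [26,37],
  [26,28],
  [26,28,36],
  [26,28,37],
  [24],
  [24,36],
  [24,37],
  [24,28],
  [24,28,36],
  [24,28,37],
  [24,26],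
  [24,26,36],
  [24,26,37],
  [24,26,28],
  [24,26,28,36],
  [24,26,28,37],
  [24,27],
  [24,27,36],
  [24,27,37],
  [24,27,28],
  [24,27,28,36],
  [24,27,28,37]]

/-- Certificates at step 3. -/
def steps3 : List (Option (ℕ × List ℕ × List ℕ)) := [
  some (0,[],[]),
  some (1,[],[]),
  some (1,[25],[]),
  some (2,[],[]),
  some (3,[],[]),
  some (3,[25],[]),
  some (4,[],[]),
  some (5,[],[]),
  some (6,[],[]),
  some (7,[],[]),
  some (8,[],[]),
  some (9,[],[]),
  some (10,[],[]),
  some (11,[],[]),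
  some (12,[],[]),
  some (13,[],[]),
  some (14,[],[]),
  some (15,[],[]),
  some (16,[],[]),
  some (17,[],[]),
  some (18,[],[]),
  some (19,[],[]),
  some (20,[],[]),
  some (21,[],[]),
  some (22,[],[]),
  some (23,[],[]),
  some (24,[],[]),
  some (25,[],[]),
  some (26,[],[]),
  some (27,[],[])]

/-- Representatives at step 4. -/
def reps4 : List (List ℕ) := [
  [],
  [30],
  [36],
  [36,30],
  [28],
  [28,36],
  [26],
  [26,30],
  [26,36],
  [26,36,30],
  [26,37],
  [26,37,30],
  [26,28],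
  [26,28,36],
  [26,28,37],
  [24],
  [24,36],
  [24,37],
  [24,28],
  [24,28,36],
  [24,28,37],
  [24,26],
  [24,26,36],
  [24,26,37],
  [24,26,28],
  [24,26,28,36],
  [24,26,28,37],
  [24,27],
  [24,27,36],
  [24,27,37],
  [24,27,28],
  [24,27,28,36],
  [24,27,28,37]]

/-- Certificates at step 4. -/
def steps4 : List (Option (ℕ × List ℕ × List ℕ)) := [
  some (0,[],[]),
  some (1,[],[]),
  some (1,[24],[]),
  some (2,[],[]),
  some (3,[],[]),
  some (3,[24],[]),
  some (4,[],[]),
  some (4,[1],[]),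
  some (4,[0],[]),
  some (5,[],[]),
  some (5,[1],[41]),
  some (5,[0],[40]),
  some (6,[],[]),
  some (7,[],[]),
  some (7,[24],[]),
  some (8,[],[]),
  some (9,[],[]),
  some (9,[24],[]),
  some (10,[],[]),
  some (11,[],[]),
  some (11,[24],[]),
  some (12,[],[]),
  some (12,[1],[]),
  some (12,[0],[]),
  some (13,[],[]),
  some (13,[1],[41]),
  some (13,[0],[40]),
  some (14,[],[]),
  some (14,[1],[40]),
  some (14,[0],[41]),
  some (15,[],[]),
  some (15,[4],[]),
  some (15,[5],[]),
  some (16,[],[]),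
  some (16,[4],[38,41]),
  some (16,[5],[39,40]),
  some (17,[],[]),
  some (17,[4],[39,40]),
  some (17,[5],[38,41]),
  some (18,[],[]),
  some (18,[1],[]),
  some (18,[0],[]),
  some (19,[],[]),
  some (19,[1],[41]),
  some (19,[0],[40]),
  some (20,[],[]),
  some (20,[1],[40]),
  some (20,[0],[41]),
  some (21,[],[]),
  some (21,[4],[33,34]),
  some (21,[5],[32,35]),
  some (22,[],[]),
  some (22,[4],[33,38,34,41,43,44,46]),
  some (22,[5],[32,39,35,40,42,45,46]),
  some (23,[],[]),
  some (23,[4],[33,39,34,40,42,45,47]),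
  some (23,[5],[32,38,35,41,43,44,47]),
  some (24,[],[]),
  some (24,[1],[]),
  some (24,[0],[]),
  some (25,[],[]),
  some (25,[1],[41]),
  some (25,[0],[40]),
  some (26,[],[]),
  some (26,[1],[40]),
  some (26,[0],[41]),
  some (27,[],[]),
  some (27,[4],[32,35]),
  some (27,[5],[33,34]),
  some (28,[],[]),
  some (28,[4],[32,38,35,41,42,45,47]),
  some (28,[5],[33,39,34,40,43,44,47]),
  some (29,[],[]),
  some (29,[4],[32,39,35,40,43,44,46]),
  some (29,[5],[33,38,34,41,42,45,46]),
  some (30,[],[]),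
  some (30,[1],[]),
  some (30,[0],[]),
  some (31,[],[]),
  some (31,[1],[41]),
  some (31,[0],[40]),
  some (32,[],[]),
  some (32,[1],[40]),
  some (32,[0],[41])]

/-- Representatives at step 5. -/
def reps5 : List (List ℕ) := [
  [],
  [32],
  [30],
  [30,32],
  [30,33],
  [36],
  [36,32],
  [36,30],
  [36,30,32],
  [36,30,33],
  [28],
  [28,36],
  [26],
  [26,30],
  [26,36],
  [26,36,30],
  [26,37],
  [26,37,30],
  [26,28],
  [26,28,36],
  [26,28,37],
  [24],
  [24,32],
  [24,36],
  [24,36,32],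
  [24,37],
  [24,37,32],
  [24,28],
  [24,28,36],
  [24,28,37],
  [24,26],
  [24,26,32],
  [24,26,36],
  [24,26,36,32],
  [24,26,37],
  [24,26,37,32],
  [24,26,28],
  [24,26,28,36],
  [24,26,28,37],
  [24,27],
  [24,27,32],
  [24,27,36],
  [24,27,36,32],
  [24,27,37],
  [24,27,37,32],
  [24,27,28],
  [24,27,28,36],
  [24,27,28,37]]

/-- Certificates at step 5. -/
def steps5 : List (Option (ℕ × List ℕ × List ℕ)) := [
  some (0,[],[]),
  some (1,[],[]),
  some (1,[24],[]),
  some (2,[],[]),
  some (3,[],[]),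
  some (4,[],[]),
  some (5,[],[]),
  some (6,[],[]),
  some (6,[24],[]),
  some (7,[],[]),
  some (8,[],[]),
  some (9,[],[]),
  some (10,[],[]),
  some (10,[3],[]),
  some (10,[2],[]),
  some (11,[],[]),
  some (11,[3],[43]),
  some (11,[2],[42]),
  some (12,[],[]),
  some (12,[4],[]),
  some (12,[5],[]),
  some (13,[],[]),
  some (13,[4],[]),
  some (13,[5],[]),
  some (14,[],[]),
  some (14,[4],[38,43]),
  some (14,[5],[39,42]),
  some (15,[],[]),
  some (15,[4],[38,43,47]),
  some (15,[5],[39,42,46]),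
  some (16,[],[]),
  some (16,[4],[39,42]),
  some (16,[5],[38,43]),
  some (17,[],[]),
  some (17,[4],[39,42,46]),
  some (17,[5],[38,43,47]),
  some (18,[],[]),
  some (18,[3],[]),
  some (18,[2],[]),
  some (19,[],[]),
  some (19,[3],[43]),
  some (19,[2],[42]),
  some (20,[],[]),
  some (20,[3],[42]),
  some (20,[2],[43]),
  some (21,[],[]),
  some (22,[],[]),
  some (22,[24],[]),
  some (23,[],[]),
  some (24,[],[]),
  some (24,[24],[]),
  some (25,[],[]),
  some (26,[],[]),
  some (26,[24],[]),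
  some (27,[],[]),
  some (27,[3],[]),
  some (27,[2],[]),
  some (28,[],[]),
  some (28,[3],[43]),
  some (28,[2],[42]),
  some (29,[],[]),
  some (29,[3],[42]),
  some (29,[2],[43]),
  some (30,[],[]),
  some (31,[],[]),
  some (31,[24],[]),
  some (32,[],[]),
  some (33,[],[]),
  some (33,[24],[]),
  some (34,[],[]),
  some (35,[],[]),
  some (35,[24],[]),
  some (36,[],[]),
  some (36,[3],[]),
  some (36,[2],[]),
  some (37,[],[]),
  some (37,[3],[43]),
  some (37,[2],[42]),
  some (38,[],[]),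
  some (38,[3],[42]),
  some (38,[2],[43]),
  some (39,[],[]),
  some (40,[],[]),
  some (40,[24],[]),
  some (41,[],[]),
  some (42,[],[]),
  some (42,[24],[]),
  some (43,[],[]),
  some (44,[],[]),
  some (44,[24],[]),
  some (45,[],[]),
  some (45,[3],[]),
  some (45,[2],[]),
  some (46,[],[]),
  some (46,[3],[43]),
  some (46,[2],[42]),
  some (47,[],[]),
  some (47,[3],[42]),
  some (47,[2],[43])]

/-- Representatives at step 6. -/
def reps6 : List (List ℕ) := [
  [],
  [38],
  [32],
  [32,38],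
  [32,39],
  [30],
  [30,38],
  [30,39],
  [30,32],
  [30,32,38],
  [30,32,39],
  [30,33],
  [30,33,38],
  [30,33,39],
  [36],
  [36,32],
  [36,30],
  [36,30,32],
  [36,30,33],
  [28],
  [28,36],
  [26],
  [26,38],
  [26,30],
  [26,30,38],
  [26,30,39],
  [26,36],
  [26,36,38],
  [26,36,30],
  [26,36,30,38],
  [26,36,30,39],
  [26,37],
  [26,37,38],
  [26,37,30],
  [26,37,30,38],
  [26,37,30,39],
  [26,28],
  [26,28,36],
  [26,28,37],
  [24],
  [24,38],
  [24,32],
  [24,32,38],
  [24,32,39],
  [24,36],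
  [24,36,38],
  [24,36,32],
  [24,36,32,38],
  [24,36,32,39],
  [24,37],
  [24,37,38],
  [24,37,32],
  [24,37,32,38],
  [24,37,32,39],
  [24,28],
  [24,28,36],
  [24,28,37],
  [24,26],
  [24,26,38],
  [24,26,32],
  [24,26,32,38],
  [24,26,32,39],
  [24,26,36],
  [24,26,36,38],
  [24,26,36,32],
  [24,26,36,32,38],
  [24,26,36,32,39],
  [24,26,37],
  [24,26,37,38],
  [24,26,37,32],
  [24,26,37,32,38],
  [24,26,37,32,39],
  [24,26,28],
  [24,26,28,36],
  [24,26,28,37],
  [24,27],
  [24,27,38],
  [24,27,32],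
  [24,27,32,38],
  [24,27,32,39],
  [24,27,36],
  [24,27,36,38],
  [24,27,36,32],
  [24,27,36,32,38],
  [24,27,36,32,39],
  [24,27,37],
  [24,27,37,38],
  [24,27,37,32],
  [24,27,37,32,38],
  [24,27,37,32,39],
  [24,27,28],
  [24,27,28,36],
  [24,27,28,37]]

/-- Certificates at step 6. -/
def steps6 : List (Option (ℕ × List ℕ × List ℕ)) := [
  some (0,[],[]),
  some (1,[],[]),
  some (1,[24],[]),
  some (2,[],[]),
  some (3,[],[]),
  some (4,[],[]),
  some (5,[],[]),
  some (6,[],[]),
  some (7,[],[]),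
  some (8,[],[]),
  some (9,[],[]),
  some (10,[],[]),
  some (11,[],[]),
  some (12,[],[]),
  some (13,[],[]),
  some (14,[],[]),
  some (14,[5],[]),
  some (14,[4],[]),
  some (15,[],[]),
  some (15,[5],[]),
  some (15,[4],[]),
  some (16,[],[]),
  some (16,[5],[]),
  some (16,[4],[]),
  some (17,[],[]),
  some (17,[5],[]),
  some (17,[4],[]),
  some (18,[],[]),
  some (18,[5],[]),
  some (18,[4],[]),
  some (19,[],[]),
  some (19,[6],[]),
  some (19,[7],[]),
  some (20,[],[]),
  some (20,[5],[]),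
  some (20,[4],[]),
  some (21,[],[]),
  some (22,[],[]),
  some (22,[24],[]),
  some (23,[],[]),
  some (24,[],[]),
  some (25,[],[]),
  some (26,[],[]),
  some (27,[],[]),
  some (27,[24],[]),
  some (28,[],[]),
  some (29,[],[]),
  some (30,[],[]),
  some (31,[],[]),
  some (32,[],[]),
  some (32,[24],[]),
  some (33,[],[]),
  some (34,[],[]),
  some (35,[],[]),
  some (36,[],[]),
  some (36,[6],[]),
  some (36,[7],[]),
  some (37,[],[]),
  some (37,[6],[]),
  some (37,[7],[]),
  some (38,[],[]),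
  some (38,[6],[]),
  some (38,[7],[]),
  some (39,[],[]),
  some (40,[],[]),
  some (40,[24],[]),
  some (41,[],[]),
  some (42,[],[]),
  some (43,[],[]),
  some (44,[],[]),
  some (45,[],[]),
  some (45,[24],[]),
  some (46,[],[]),
  some (47,[],[]),
  some (48,[],[]),
  some (49,[],[]),
  some (50,[],[]),
  some (50,[24],[]),
  some (51,[],[]),
  some (52,[],[]),
  some (53,[],[]),
  some (54,[],[]),
  some (54,[6],[]),
  some (54,[7],[]),
  some (55,[],[]),
  some (55,[6],[]),
  some (55,[7],[]),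
  some (56,[],[]),
  some (56,[6],[]),
  some (56,[7],[]),
  some (57,[],[]),
  some (58,[],[]),
  some (58,[24],[]),
  some (59,[],[]),
  some (60,[],[]),
  some (61,[],[]),
  some (62,[],[]),
  some (63,[],[]),
  some (63,[24],[]),
  some (64,[],[]),
  some (65,[],[]),
  some (66,[],[]),
  some (67,[],[]),
  some (68,[],[]),
  some (68,[24],[]),
  some (69,[],[]),
  some (70,[],[]),
  some (71,[],[]),
  some (72,[],[]),
  some (72,[6],[]),
  some (72,[7],[]),
  some (73,[],[]),
  some (73,[6],[]),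
  some (73,[7],[]),
  some (74,[],[]),
  some (74,[6],[]),
  some (74,[7],[]),
  some (75,[],[]),
  some (76,[],[]),
  some (76,[24],[]),
  some (77,[],[]),
  some (78,[],[]),
  some (79,[],[]),
  some (80,[],[]),
  some (81,[],[]),
  some (81,[24],[]),
  some (82,[],[]),
  some (83,[],[]),
  some (84,[],[]),
  some (85,[],[]),
  some (86,[],[]),
  some (86,[24],[]),
  some (87,[],[]),
  some (88,[],[]),
  some (89,[],[]),
  some (90,[],[]),
  some (90,[6],[]),
  some (90,[7],[]),
  some (91,[],[]),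
  some (91,[6],[]),
  some (91,[7],[]),
  some (92,[],[]),
  some (92,[6],[]),
  some (92,[7],[])]

/-- Representatives at step 7. -/
def reps7 : List (List ℕ) := [
  [],
  [34],
  [38],
  [38,34],
  [32],
  [32,38],
  [32,39],
  [30],
  [30,38],
  [30,39],
  [30,32],
  [30,32,38],
  [30,32,39],
  [30,33],
  [30,33,38],
  [30,33,39],
  [36],
  [36,34],
  [36,32],
  [36,30],
  [36,30,32],
  [36,30,33],
  [28],
  [28,34],
  [28,35],
  [28,36],
  [28,36,34],
  [28,36,35],
  [26],
  [26,38],
  [26,30],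
  [26,30,38],
  [26,30,39],
  [26,36],
  [26,36,38],
  [26,36,30],
  [26,36,30,38],
  [26,36,30,39],
  [26,37],
  [26,37,38],
  [26,37,30],
  [26,37,30,38],
  [26,37,30,39],
  [26,28],
  [26,28,36],
  [26,28,37],
  [24],
  [24,38],
  [24,32],
  [24,32,38],
  [24,32,39],
  [24,36],
  [24,36,38],
  [24,36,32],
  [24,36,32,38],
  [24,36,32,39],
  [24,37],
  [24,37,38],
  [24,37,32],
  [24,37,32,38],
  [24,37,32,39],
  [24,28],
  [24,28,36],
  [24,28,37],
  [24,26],
  [24,26,38],
  [24,26,32],
  [24,26,32,38],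
  [24,26,32,39],
  [24,26,36],
  [24,26,36,38],
  [24,26,36,32],
  [24,26,36,32,38],
  [24,26,36,32,39],
  [24,26,37],
  [24,26,37,38],
  [24,26,37,32],
  [24,26,37,32,38],
  [24,26,37,32,39],
  [24,27],
  [24,27,38],
  [24,27,32],
  [24,27,32,38],
  [24,27,32,39],
  [24,27,36],
  [24,27,36,38],
  [24,27,36,32],
  [24,27,36,32,38],
  [24,27,36,32,39],
  [24,27,37],
  [24,27,37,38],
  [24,27,37,32],
  [24,27,37,32,38],
  [24,27,37,32,39]]

/-- Certificates at step 7. -/
def steps7 : List (Option (ℕ × List ℕ × List ℕ)) := [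
  some (0,[],[]),
  some (1,[],[]),
  some (1,[24],[]),
  some (2,[],[]),
  some (3,[],[]),
  some (3,[24,25],[]),
  some (4,[],[]),
  some (4,[1],[]),
  some (4,[0],[]),
  some (5,[],[]),
  some (5,[1],[41,47]),
  some (5,[0],[40,46]),
  some (6,[],[]),
  some (6,[1],[40,46]),
  some (6,[0],[41,47]),
  some (7,[],[]),
  some (7,[3],[]),
  some (7,[2],[]),
  some (8,[],[]),
  some (8,[3],[43,47]),
  some (8,[2],[42,46]),
  some (9,[],[]),
  some (9,[3],[42,46]),
  some (9,[2],[43,47]),
  some (10,[],[]),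
  some (10,[1],[]),
  some (10,[0],[]),
  some (11,[],[]),
  some (11,[1],[41,47]),
  some (11,[0],[40,46]),
  some (12,[],[]),
  some (12,[1],[40,46]),
  some (12,[0],[41,47]),
  some (13,[],[]),
  some (13,[0],[]),
  some (13,[1],[]),
  some (14,[],[]),
  some (14,[0],[40,47]),
  some (14,[1],[41,46]),
  some (15,[],[]),
  some (15,[0],[41,46]),
  some (15,[1],[40,47]),
  some (16,[],[]),
  some (17,[],[]),
  some (17,[24],[]),
  some (18,[],[]),
  some (18,[1],[]),
  some (18,[0],[]),
  some (19,[],[]),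
  some (19,[3],[]),
  some (19,[2],[]),
  some (20,[],[]),
  some (20,[1],[]),
  some (20,[0],[]),
  some (21,[],[]),
  some (21,[0],[]),
  some (21,[1],[]),
  some (22,[],[]),
  some (23,[],[]),
  some (24,[],[]),
  some (25,[],[]),
  some (26,[],[]),
  some (27,[],[]),
  some (28,[],[]),
  some (28,[8],[]),
  some (28,[9],[]),
  some (29,[],[]),
  some (29,[8],[47]),
  some (29,[9],[46]),
  some (30,[],[]),
  some (30,[3],[]),
  some (30,[2],[]),
  some (31,[],[]),
  some (31,[3],[43,47]),
  some (31,[2],[42,46]),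
  some (32,[],[]),
  some (32,[3],[42,46]),
  some (32,[2],[43,47]),
  some (33,[],[]),
  some (33,[8],[40,45]),
  some (33,[9],[41,44]),
  some (34,[],[]),
  some (34,[8],[40,45,47]),
  some (34,[9],[41,44,46]),
  some (35,[],[]),
  some (35,[3],[]),
  some (35,[2],[]),
  some (36,[],[]),
  some (36,[3],[43,47]),
  some (36,[2],[42,46]),
  some (37,[],[]),
  some (37,[3],[42,46]),
  some (37,[2],[43,47]),
  some (38,[],[]),
  some (38,[8],[41,44]),
  some (38,[9],[40,45]),
  some (39,[],[]),
  some (39,[8],[41,44,47]),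
  some (39,[9],[40,45,46]),
  some (40,[],[]),
  some (40,[3],[]),
  some (40,[2],[]),
  some (41,[],[]),
  some (41,[3],[43,47]),
  some (41,[2],[42,46]),
  some (42,[],[]),
  some (42,[3],[42,46]),
  some (42,[2],[43,47]),
  some (43,[],[]),
  some (43,[8],[]),
  some (43,[9],[]),
  some (44,[],[]),
  some (44,[8],[40,45]),
  some (44,[9],[41,44]),
  some (45,[],[]),
  some (45,[8],[41,44]),
  some (45,[9],[40,45]),
  some (46,[],[]),
  some (46,[10],[]),
  some (46,[11],[]),
  some (47,[],[]),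
  some (47,[10],[47]),
  some (47,[11],[46]),
  some (48,[],[]),
  some (48,[1],[]),
  some (48,[0],[]),
  some (49,[],[]),
  some (49,[1],[41,47]),
  some (49,[0],[40,46]),
  some (50,[],[]),
  some (50,[1],[40,46]),
  some (50,[0],[41,47]),
  some (51,[],[]),
  some (51,[10],[42,45]),
  some (51,[11],[43,44]),
  some (52,[],[]),
  some (52,[10],[42,45,47]),
  some (52,[11],[43,44,46]),
  some (53,[],[]),
  some (53,[1],[]),
  some (53,[0],[]),
  some (54,[],[]),
  some (54,[1],[41,47]),
  some (54,[0],[40,46]),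
  some (55,[],[]),
  some (55,[1],[40,46]),
  some (55,[0],[41,47]),
  some (56,[],[]),
  some (56,[10],[43,44]),
  some (56,[11],[42,45]),
  some (57,[],[]),
  some (57,[10],[43,44,47]),
  some (57,[11],[42,45,46]),
  some (58,[],[]),
  some (58,[1],[]),
  some (58,[0],[]),
  some (59,[],[]),
  some (59,[1],[41,47]),
  some (59,[0],[40,46]),
  some (60,[],[]),
  some (60,[1],[40,46]),
  some (60,[0],[41,47]),
  some (61,[],[]),
  some (61,[10],[]),
  some (61,[11],[]),
  some (62,[],[]),
  some (62,[10],[42,45]),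
  some (62,[11],[43,44]),
  some (63,[],[]),
  some (63,[10],[43,44]),
  some (63,[11],[42,45]),
  some (64,[],[]),
  some (64,[8],[]),
  some (64,[9],[]),
  some (65,[],[]),
  some (65,[8],[47]),
  some (65,[9],[46]),
  some (66,[],[]),
  some (66,[1],[]),
  some (66,[0],[]),
  some (67,[],[]),
  some (67,[1],[41,47]),
  some (67,[0],[40,46]),
  some (68,[],[]),
  some (68,[1],[40,46]),
  some (68,[0],[41,47]),
  some (69,[],[]),
  some (69,[8],[40,45]),
  some (69,[9],[41,44]),
  some (70,[],[]),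
  some (70,[8],[40,45,47]),
  some (70,[9],[41,44,46]),
  some (71,[],[]),
  some (71,[1],[]),
  some (71,[0],[]),
  some (72,[],[]),
  some (72,[1],[41,47]),
  some (72,[0],[40,46]),
  some (73,[],[]),
  some (73,[1],[40,46]),
  some (73,[0],[41,47]),
  some (74,[],[]),
  some (74,[8],[41,44]),
  some (74,[9],[40,45]),
  some (75,[],[]),
  some (75,[8],[41,44,47]),
  some (75,[9],[40,45,46]),
  some (76,[],[]),
  some (76,[1],[]),
  some (76,[0],[]),
  some (77,[],[]),
  some (77,[1],[41,47]),
  some (77,[0],[40,46]),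
  some (78,[],[]),
  some (78,[1],[40,46]),
  some (78,[0],[41,47]),
  none,
  none,
  none,
  none,
  none,
  none,
  none,
  none,
  none,
  some (79,[],[]),
  some (79,[9],[]),
  some (79,[8],[]),
  some (80,[],[]),
  some (80,[9],[47]),
  some (80,[8],[46]),
  some (81,[],[]),
  some (81,[1],[]),
  some (81,[0],[]),
  some (82,[],[]),
  some (82,[1],[41,47]),
  some (82,[0],[40,46]),
  some (83,[],[]),
  some (83,[1],[40,46]),
  some (83,[0],[41,47]),
  some (84,[],[]),
  some (84,[9],[41,45]),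
  some (84,[8],[40,44]),
  some (85,[],[]),
  some (85,[9],[41,45,47]),
  some (85,[8],[40,44,46]),
  some (86,[],[]),
  some (86,[1],[]),
  some (86,[0],[]),
  some (87,[],[]),
  some (87,[1],[41,47]),
  some (87,[0],[40,46]),
  some (88,[],[]),
  some (88,[1],[40,46]),
  some (88,[0],[41,47]),
  some (89,[],[]),
  some (89,[9],[40,44]),
  some (89,[8],[41,45]),
  some (90,[],[]),
  some (90,[9],[40,44,47]),
  some (90,[8],[41,45,46]),
  some (91,[],[]),
  some (91,[1],[]),
  some (91,[0],[]),
  some (92,[],[]),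
  some (92,[1],[41,47]),
  some (92,[0],[40,46]),
  some (93,[],[]),
  some (93,[1],[40,46]),
  some (93,[0],[41,47]),
  none,
  none,
  none,
  none,
  none,
  none,
  none,
  none,
  none]

/-- Representatives at step 8. -/
def reps8 : List (List ℕ) := [
  [],
  [40],
  [34],
  [34,40],
  [34,41],
  [38],
  [38,34],
  [32],
  [32,40],
  [32,38],
  [32,38,40],
  [32,39],
  [32,39,40],
  [30],
  [30,38],
  [30,39],
  [30,32],
  [30,32,38],
  [30,32,39],
  [30,33],
  [30,33,38],
  [30,33,39],
  [36],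
  [36,34],
  [36,32],
  [36,30],
  [36,30,32],
  [36,30,33],
  [28],
  [28,40],
  [28,41],
  [28,34],
  [28,34,40],
  [28,34,41],
  [28,35],
  [28,35,40],
  [28,35,41],
  [28,36],
  [28,36,34],
  [28,36,35],
  [26],
  [26,40],
  [26,38],
  [26,30],
  [26,30,38],
  [26,30,39],
  [26,36],
  [26,36,40],
  [26,36,38],
  [26,36,30],
  [26,36,30,38],
  [26,36,30,39],
  [26,37],
  [26,37,40],
  [26,37,38],
  [26,37,30],
  [26,37,30,38],
  [26,37,30,39],
  [26,28],
  [26,28,40],
  [26,28,41],
  [26,28,36],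
  [26,28,36,40],
  [26,28,36,41],
  [26,28,37],
  [26,28,37,40],
  [26,28,37,41],
  [24],
  [24,38],
  [24,32],
  [24,32,38],
  [24,32,39],
  [24,36],
  [24,36,38],
  [24,36,32],
  [24,36,32,38],
  [24,36,32,39],
  [24,37],
  [24,37,38],
  [24,37,32],
  [24,37,32,38],
  [24,37,32,39],
  [24,28],
  [24,26],
  [24,26,38],
  [24,26,32],
  [24,26,32,38],
  [24,26,32,39],
  [24,26,36],
  [24,26,36,38],
  [24,26,36,32],
  [24,26,36,32,38],
  [24,26,36,32,39],
  [24,26,37],
  [24,26,37,38],
  [24,26,37,32],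
  [24,26,37,32,38],
  [24,26,37,32,39],
  [24,27],
  [24,27,38],
  [24,27,32],
  [24,27,32,38],
  [24,27,32,39],
  [24,27,36],
  [24,27,36,38],
  [24,27,36,32],
  [24,27,36,32,38],
  [24,27,36,32,39],
  [24,27,37],
  [24,27,37,38],
  [24,27,37,32],
  [24,27,37,32,38],
  [24,27,37,32,39]]

/-- Certificates at step 8. -/
def steps8 : List (Option (ℕ × List ℕ × List ℕ)) := [
  some (0,[],[]),
  some (1,[],[]),
  some (1,[24],[]),
  some (2,[],[]),
  some (3,[],[]),
  some (4,[],[]),
  some (5,[],[]),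
  some (5,[1],[]),
  some (5,[0],[]),
  some (6,[],[]),
  some (6,[1],[]),
  some (6,[0],[]),
  some (7,[],[]),
  some (8,[],[]),
  some (8,[24,25],[]),
  some (9,[],[]),
  some (10,[],[]),
  some (10,[24,25],[]),
  some (11,[],[]),
  some (12,[],[]),
  some (12,[24,25],[]),
  some (13,[],[]),
  some (13,[6],[]),
  some (13,[7],[]),
  some (14,[],[]),
  some (14,[1],[]),
  some (14,[0],[]),
  some (15,[],[]),
  some (15,[0],[]),
  some (15,[1],[]),
  some (16,[],[]),
  some (16,[6],[43,47]),
  some (16,[7],[42,46]),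
  some (17,[],[]),
  some (17,[6],[43,47]),
  some (17,[7],[42,46]),
  some (18,[],[]),
  some (18,[6],[43,47]),
  some (18,[7],[42,46]),
  some (19,[],[]),
  some (19,[6],[42,46]),
  some (19,[7],[43,47]),
  some (20,[],[]),
  some (20,[6],[42,46]),
  some (20,[7],[43,47]),
  some (21,[],[]),
  some (21,[6],[42,46]),
  some (21,[7],[43,47]),
  some (22,[],[]),
  some (22,[9],[]),
  some (22,[8],[]),
  some (23,[],[]),
  some (23,[9],[]),
  some (23,[8],[]),
  some (24,[],[]),
  some (24,[9],[47]),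
  some (24,[8],[46]),
  some (25,[],[]),
  some (25,[6],[]),
  some (25,[7],[]),
  some (26,[],[]),
  some (26,[6],[43,47]),
  some (26,[7],[42,46]),
  some (27,[],[]),
  some (27,[6],[42,46]),
  some (27,[7],[43,47]),
  some (28,[],[]),
  some (29,[],[]),
  some (30,[],[]),
  some (31,[],[]),
  some (32,[],[]),
  some (33,[],[]),
  some (34,[],[]),
  some (35,[],[]),
  some (36,[],[]),
  some (37,[],[]),
  some (37,[9],[]),
  some (37,[8],[]),
  some (38,[],[]),
  some (38,[9],[]),
  some (38,[8],[]),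
  some (39,[],[]),
  some (39,[9],[]),
  some (39,[8],[]),
  some (40,[],[]),
  some (41,[],[]),
  some (41,[24],[]),
  some (42,[],[]),
  some (42,[1],[]),
  some (42,[0],[]),
  some (43,[],[]),
  some (43,[6],[]),
  some (43,[7],[]),
  some (44,[],[]),
  some (44,[1],[]),
  some (44,[0],[]),
  some (45,[],[]),
  some (45,[0],[]),
  some (45,[1],[]),
  some (46,[],[]),
  some (47,[],[]),
  some (47,[24],[]),
  some (48,[],[]),
  some (48,[1],[]),
  some (48,[0],[]),
  some (49,[],[]),
  some (49,[6],[]),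
  some (49,[7],[]),
  some (50,[],[]),
  some (50,[1],[]),
  some (50,[0],[]),
  some (51,[],[]),
  some (51,[0],[]),
  some (51,[1],[]),
  some (52,[],[]),
  some (53,[],[]),
  some (53,[24],[]),
  some (54,[],[]),
  some (54,[1],[]),
  some (54,[0],[]),
  some (55,[],[]),
  some (55,[6],[]),
  some (55,[7],[]),
  some (56,[],[]),
  some (56,[1],[]),
  some (56,[0],[]),
  some (57,[],[]),
  some (57,[0],[]),
  some (57,[1],[]),
  some (58,[],[]),
  some (59,[],[]),
  some (60,[],[]),
  some (61,[],[]),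
  some (62,[],[]),
  some (63,[],[]),
  some (64,[],[]),
  some (65,[],[]),
  some (66,[],[]),
  some (67,[],[]),
  some (67,[12],[]),
  some (67,[13],[]),
  some (68,[],[]),
  some (68,[1],[]),
  some (68,[0],[]),
  some (69,[],[]),
  some (69,[12],[47]),
  some (69,[13],[46]),
  some (70,[],[]),
  some (70,[12],[47]),
  some (70,[13],[46]),
  some (71,[],[]),
  some (71,[12],[47]),
  some (71,[13],[46]),
  some (72,[],[]),
  some (72,[9],[]),
  some (72,[8],[]),
  some (73,[],[]),
  some (73,[1],[]),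
  some (73,[0],[]),
  some (74,[],[]),
  some (74,[9],[47]),
  some (74,[8],[46]),
  some (75,[],[]),
  some (75,[9],[47]),
  some (75,[8],[46]),
  some (76,[],[]),
  some (76,[9],[47]),
  some (76,[8],[46]),
  some (77,[],[]),
  some (77,[8],[]),
  some (77,[9],[]),
  some (78,[],[]),
  some (78,[1],[]),
  some (78,[0],[]),
  some (79,[],[]),
  some (79,[8],[47]),
  some (79,[9],[46]),
  some (80,[],[]),
  some (80,[8],[47]),
  some (80,[9],[46]),
  some (81,[],[]),
  some (81,[8],[47]),
  some (81,[9],[46]),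
  some (82,[],[]),
  some (82,[12],[]),
  some (82,[13],[]),
  none,
  none,
  none,
  none,
  none,
  none,
  some (83,[],[]),
  some (83,[12],[43,44]),
  some (83,[13],[42,45]),
  some (84,[],[]),
  some (84,[1],[]),
  some (84,[0],[]),
  some (85,[],[]),
  some (85,[12],[43,44,47]),
  some (85,[13],[42,45,46]),
  some (86,[],[]),
  some (86,[12],[43,44,47]),
  some (86,[13],[42,45,46]),
  some (87,[],[]),
  some (87,[12],[43,44,47]),
  some (87,[13],[42,45,46]),
  some (88,[],[]),
  some (88,[12],[43,44]),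
  some (88,[13],[42,45]),
  some (89,[],[]),
  some (89,[1],[]),
  some (89,[0],[]),
  some (90,[],[]),
  some (90,[12],[43,44,47]),
  some (90,[13],[42,45,46]),
  some (91,[],[]),
  some (91,[12],[43,44,47]),
  some (91,[13],[42,45,46]),
  some (92,[],[]),
  some (92,[12],[43,44,47]),
  some (92,[13],[42,45,46]),
  some (93,[],[]),
  some (93,[12],[43,44]),
  some (93,[13],[42,45]),
  some (94,[],[]),
  some (94,[1],[]),
  some (94,[0],[]),
  some (95,[],[]),
  some (95,[12],[43,44,47]),
  some (95,[13],[42,45,46]),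
  some (96,[],[]),
  some (96,[12],[43,44,47]),
  some (96,[13],[42,45,46]),
  some (97,[],[]),
  some (97,[12],[43,44,47]),
  some (97,[13],[42,45,46]),
  some (98,[],[]),
  some (98,[12],[42,45]),
  some (98,[13],[43,44]),
  some (99,[],[]),
  some (99,[1],[]),
  some (99,[0],[]),
  some (100,[],[]),
  some (100,[12],[42,45,47]),
  some (100,[13],[43,44,46]),
  some (101,[],[]),
  some (101,[12],[42,45,47]),
  some (101,[13],[43,44,46]),
  some (102,[],[]),
  some (102,[12],[42,45,47]),
  some (102,[13],[43,44,46]),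
  some (103,[],[]),
  some (103,[12],[42,45]),
  some (103,[13],[43,44]),
  some (104,[],[]),
  some (104,[1],[]),
  some (104,[0],[]),
  some (105,[],[]),
  some (105,[12],[42,45,47]),
  some (105,[13],[43,44,46]),
  some (106,[],[]),
  some (106,[12],[42,45,47]),
  some (106,[13],[43,44,46]),
  some (107,[],[]),
  some (107,[12],[42,45,47]),
  some (107,[13],[43,44,46]),
  some (108,[],[]),
  some (108,[12],[42,45]),
  some (108,[13],[43,44]),
  some (109,[],[]),
  some (109,[1],[]),
  some (109,[0],[]),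
  some (110,[],[]),
  some (110,[12],[42,45,47]),
  some (110,[13],[43,44,46]),
  some (111,[],[]),
  some (111,[12],[42,45,47]),
  some (111,[13],[43,44,46]),
  some (112,[],[]),
  some (112,[12],[42,45,47]),
  some (112,[13],[43,44,46])]

/-- Representatives at step 9. -/
def reps9 : List (List ℕ) := [
  [],
  [42],
  [40],
  [40,42],
  [40,43],
  [34],
  [34,42],
  [34,43],
  [34,40],
  [34,40,42],
  [34,40,43],
  [34,41],
  [34,41,42],
  [34,41,43],
  [38],
  [38,34],
  [32],
  [32,40],
  [32,38],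
  [32,38,40],
  [32,39],
  [32,39,40],
  [30],
  [30,42],
  [30,38],
  [30,38,42],
  [30,39],
  [30,39,42],
  [30,32],
  [30,32,42],
  [30,32,38],
  [30,32,39],
  [30,33],
  [30,33,42],
  [30,33,38],
  [30,33,39],
  [36],
  [36,34],
  [36,32],
  [36,30],
  [36,30,32],
  [36,30,33],
  [28],
  [28,42],
  [28,43],
  [28,40],
  [28,40,42],
  [28,40,43],
  [28,41],
  [28,41,42],
  [28,41,43],
  [28,34],
  [28,34,42],
  [28,34,43],
  [28,34,40],
  [28,34,40,42],
  [28,34,40,43],
  [28,34,41],
  [28,34,41,42],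
  [28,34,41,43],
  [28,35],
  [28,35,42],
  [28,35,43],
  [28,35,40],
  [28,35,40,42],
  [28,35,40,43],
  [28,35,41],
  [28,35,41,42],
  [28,35,41,43],
  [28,36],
  [28,36,34],
  [28,36,35],
  [26],
  [26,40],
  [26,38],
  [26,30],
  [26,30,38],
  [26,30,39],
  [26,36],
  [26,36,40],
  [26,36,38],
  [26,36,30],
  [26,36,30,38],
  [26,36,30,39],
  [26,37],
  [26,37,40],
  [26,37,38],
  [26,37,30],
  [26,37,30,38],
  [26,37,30,39],
  [26,28],
  [26,28,40],
  [26,28,41],
  [24],
  [24,42],
  [24,38],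
  [24,32],
  [24,32,38],
  [24,32,39],
  [24,36],
  [24,36,42],
  [24,36,38],
  [24,36,32],
  [24,36,32,38],
  [24,36,32,39],
  [24,37],
  [24,37,42],
  [24,37,38],
  [24,37,32],
  [24,37,32,38],
  [24,37,32,39],
  [24,28],
  [24,28,42],
  [24,28,43],
  [24,26],
  [24,26,42],
  [24,26,38],
  [24,26,32],
  [24,26,32,38],
  [24,26,32,39],
  [24,26,36],
  [24,26,36,38],
  [24,26,36,32],
  [24,26,36,32,38],
  [24,26,36,32,39],
  [24,26,37],
  [24,26,37,38],
  [24,26,37,32],
  [24,26,37,32,38],
  [24,26,37,32,39],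
  [24,27],
  [24,27,42],
  [24,27,38],
  [24,27,32],
  [24,27,32,38],
  [24,27,32,39],
  [24,27,36],
  [24,27,36,38],
  [24,27,36,32],
  [24,27,36,32,38],
  [24,27,36,32,39],
  [24,27,37],
  [24,27,37,38],
  [24,27,37,32],
  [24,27,37,32,38],
  [24,27,37,32,39]]

/-- Certificates at step 9. -/
def steps9 : List (Option (ℕ × List ℕ × List ℕ)) := [
  some (0,[],[]),
  some (1,[],[]),
  some (1,[24],[]),
  some (2,[],[]),
  some (3,[],[]),
  some (4,[],[]),
  some (5,[],[]),
  some (6,[],[]),
  some (7,[],[]),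
  some (8,[],[]),
  some (9,[],[]),
  some (10,[],[]),
  some (11,[],[]),
  some (12,[],[]),
  some (13,[],[]),
  some (14,[],[]),
  some (14,[3],[]),
  some (14,[2],[]),
  some (15,[],[]),
  some (15,[3],[]),
  some (15,[2],[]),
  some (16,[],[]),
  some (16,[6],[]),
  some (16,[7],[]),
  some (17,[],[]),
  some (17,[6],[]),
  some (17,[7],[]),
  some (18,[],[]),
  some (18,[3],[]),
  some (18,[2],[]),
  some (19,[],[]),
  some (19,[3],[45]),
  some (19,[2],[44]),
  some (20,[],[]),
  some (20,[2],[]),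
  some (20,[3],[]),
  some (21,[],[]),
  some (21,[2],[44]),
  some (21,[3],[45]),
  some (22,[],[]),
  some (23,[],[]),
  some (23,[24,25],[]),
  some (24,[],[]),
  some (25,[],[]),
  some (25,[24,25],[]),
  some (26,[],[]),
  some (27,[],[]),
  some (27,[24,25],[]),
  some (28,[],[]),
  some (29,[],[]),
  some (29,[24,25],[]),
  some (30,[],[]),
  some (30,[1,2,7],[44,46]),
  some (30,[0,3,6],[44,47]),
  some (31,[],[]),
  some (31,[0,3,7],[45,46]),
  some (31,[1,2,6],[45,47]),
  some (32,[],[]),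
  some (33,[],[]),
  some (33,[24,25],[]),
  some (34,[],[]),
  some (34,[0,2,6],[45,46]),
  some (34,[1,3,7],[45,47]),
  some (35,[],[]),
  some (35,[1,3,6],[44,46]),
  some (35,[0,2,7],[44,47]),
  some (36,[],[]),
  some (36,[11],[]),
  some (36,[10],[]),
  some (37,[],[]),
  some (37,[11],[]),
  some (37,[10],[]),
  some (38,[],[]),
  some (38,[6],[]),
  some (38,[7],[]),
  some (39,[],[]),
  some (39,[11],[47]),
  some (39,[10],[46]),
  some (40,[],[]),
  some (40,[11],[47]),
  some (40,[10],[46]),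
  some (41,[],[]),
  some (41,[11],[47]),
  some (41,[10],[46]),
  some (42,[],[]),
  some (43,[],[]),
  some (44,[],[]),
  some (45,[],[]),
  some (46,[],[]),
  some (47,[],[]),
  some (48,[],[]),
  some (49,[],[]),
  some (50,[],[]),
  some (51,[],[]),
  some (52,[],[]),
  some (53,[],[]),
  some (54,[],[]),
  some (55,[],[]),
  some (56,[],[]),
  some (57,[],[]),
  some (58,[],[]),
  some (59,[],[]),
  some (60,[],[]),
  some (61,[],[]),
  some (62,[],[]),
  some (63,[],[]),
  some (64,[],[]),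
  some (65,[],[]),
  some (66,[],[]),
  some (67,[],[]),
  some (68,[],[]),
  some (69,[],[]),
  some (69,[11],[]),
  some (69,[10],[]),
  some (70,[],[]),
  some (70,[11],[]),
  some (70,[10],[]),
  some (71,[],[]),
  some (71,[11],[]),
  some (71,[10],[]),
  some (72,[],[]),
  some (72,[12],[]),
  some (72,[13],[]),
  some (73,[],[]),
  some (73,[12],[]),
  some (73,[13],[]),
  some (74,[],[]),
  some (74,[3],[]),
  some (74,[2],[]),
  some (75,[],[]),
  some (75,[12],[47]),
  some (75,[13],[46]),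
  some (76,[],[]),
  some (76,[12],[47]),
  some (76,[13],[46]),
  some (77,[],[]),
  some (77,[12],[47]),
  some (77,[13],[46]),
  some (78,[],[]),
  some (78,[11],[]),
  some (78,[10],[]),
  some (79,[],[]),
  some (79,[11],[46]),
  some (79,[10],[47]),
  some (80,[],[]),
  some (80,[3],[]),
  some (80,[2],[]),
  some (81,[],[]),
  some (81,[11],[47]),
  some (81,[10],[46]),
  some (82,[],[]),
  some (82,[11],[47]),
  some (82,[10],[46]),
  some (83,[],[]),
  some (83,[11],[47]),
  some (83,[10],[46]),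
  some (84,[],[]),
  some (84,[10],[]),
  some (84,[11],[]),
  some (85,[],[]),
  some (85,[10],[47]),
  some (85,[11],[46]),
  some (86,[],[]),
  some (86,[3],[]),
  some (86,[2],[]),
  some (87,[],[]),
  some (87,[10],[47]),
  some (87,[11],[46]),
  some (88,[],[]),
  some (88,[10],[47]),
  some (88,[11],[46]),
  some (89,[],[]),
  some (89,[10],[47]),
  some (89,[11],[46]),
  some (90,[],[]),
  some (90,[12],[]),
  some (90,[13],[]),
  some (91,[],[]),
  some (91,[12],[]),
  some (91,[13],[]),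
  some (92,[],[]),
  some (92,[12],[]),
  some (92,[13],[]),
  none,
  none,
  none,
  none,
  none,
  none,
  none,
  none,
  none,
  none,
  none,
  none,
  none,
  none,
  none,
  none,
  none,
  none,
  some (93,[],[]),
  some (94,[],[]),
  some (94,[24],[]),
  some (95,[],[]),
  some (95,[3],[]),
  some (95,[2],[]),
  some (96,[],[]),
  some (96,[6],[]),
  some (96,[7],[]),
  some (97,[],[]),
  some (97,[3],[]),
  some (97,[2],[]),
  some (98,[],[]),
  some (98,[2],[]),
  some (98,[3],[]),
  some (99,[],[]),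
  some (100,[],[]),
  some (100,[24],[]),
  some (101,[],[]),
  some (101,[3],[]),
  some (101,[2],[]),
  some (102,[],[]),
  some (102,[6],[]),
  some (102,[7],[]),
  some (103,[],[]),
  some (103,[3],[]),
  some (103,[2],[]),
  some (104,[],[]),
  some (104,[2],[]),
  some (104,[3],[]),
  some (105,[],[]),
  some (106,[],[]),
  some (106,[24],[]),
  some (107,[],[]),
  some (107,[3],[]),
  some (107,[2],[]),
  some (108,[],[]),
  some (108,[6],[]),
  some (108,[7],[]),
  some (109,[],[]),
  some (109,[3],[]),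
  some (109,[2],[]),
  some (110,[],[]),
  some (110,[2],[]),
  some (110,[3],[]),
  some (111,[],[]),
  some (112,[],[]),
  some (113,[],[]),
  some (114,[],[]),
  some (115,[],[]),
  some (115,[24],[]),
  some (116,[],[]),
  some (116,[3],[]),
  some (116,[2],[]),
  some (117,[],[]),
  some (117,[6],[]),
  some (117,[7],[]),
  some (118,[],[]),
  some (118,[3],[]),
  some (118,[2],[]),
  some (119,[],[]),
  some (119,[2],[]),
  some (119,[3],[]),
  some (120,[],[]),
  some (120,[9,10,13],[45,47]),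
  some (120,[8,11,12],[44,47]),
  some (121,[],[]),
  some (121,[3],[]),
  some (121,[2],[]),
  some (122,[],[]),
  some (122,[6],[]),
  some (122,[7],[]),
  some (123,[],[]),
  some (123,[3],[]),
  some (123,[2],[]),
  some (124,[],[]),
  some (124,[2],[]),
  some (124,[3],[]),
  some (125,[],[]),
  some (125,[8,11,13],[45,46]),
  some (125,[9,10,12],[44,46]),
  some (126,[],[]),
  some (126,[3],[]),
  some (126,[2],[]),
  some (127,[],[]),
  some (127,[6],[]),
  some (127,[7],[]),
  some (128,[],[]),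
  some (128,[3],[]),
  some (128,[2],[]),
  some (129,[],[]),
  some (129,[2],[]),
  some (129,[3],[]),
  some (130,[],[]),
  some (131,[],[]),
  some (131,[24],[]),
  some (132,[],[]),
  some (132,[3],[]),
  some (132,[2],[]),
  some (133,[],[]),
  some (133,[6],[]),
  some (133,[7],[]),
  some (134,[],[]),
  some (134,[3],[]),
  some (134,[2],[]),
  some (135,[],[]),
  some (135,[2],[]),
  some (135,[3],[]),
  some (136,[],[]),
  some (136,[8,10,12],[45,46]),
  some (136,[9,11,13],[44,46]),
  some (137,[],[]),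
  some (137,[3],[]),
  some (137,[2],[]),
  some (138,[],[]),
  some (138,[6],[]),
  some (138,[7],[]),
  some (139,[],[]),
  some (139,[3],[]),
  some (139,[2],[]),
  some (140,[],[]),
  some (140,[2],[]),
  some (140,[3],[]),
  some (141,[],[]),
  some (141,[9,11,12],[45,47]),
  some (141,[8,10,13],[44,47]),
  some (142,[],[]),
  some (142,[3],[]),
  some (142,[2],[]),
  some (143,[],[]),
  some (143,[6],[]),
  some (143,[7],[]),
  some (144,[],[]),
  some (144,[3],[]),
  some (144,[2],[]),
  some (145,[],[]),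
  some (145,[2],[]),
  some (145,[3],[])]

/-- Representatives at step 10. -/
def reps10 : List (List ℕ) := [
  [],
  [44],
  [42],
  [40],
  [40,42],
  [40,43],
  [34],
  [34,42],
  [34,43],
  [34,40],
  [34,40,42],
  [34,40,43],
  [34,41],
  [34,41,42],
  [34,41,43],
  [38],
  [38,44],
  [38,45],
  [38,34],
  [32],
  [32,44],
  [32,45],
  [32,40],
  [32,38],
  [32,38,44],
  [32,38,45],
  [32,38,40],
  [32,39],
  [32,39,44],
  [32,39,45],
  [32,39,40],
  [30],
  [30,44],
  [30,45],
  [30,42],
  [30,38],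
  [30,38,44],
  [30,38,45],
  [30,38,42],
  [30,39],
  [30,39,44],
  [30,39,45],
  [30,39,42],
  [30,32],
  [30,32,44],
  [30,32,45],
  [30,32,42],
  [30,32,38],
  [30,32,38,44],
  [30,32,38,45],
  [30,32,39],
  [30,32,39,44],
  [30,32,39,45],
  [30,33],
  [30,33,44],
  [30,33,45],
  [30,33,42],
  [30,33,38],
  [30,33,38,44],
  [30,33,38,45],
  [30,33,39],
  [30,33,39,44],
  [30,33,39,45],
  [36],
  [36,34],
  [36,32],
  [36,30],
  [36,30,32],
  [36,30,33],
  [28],
  [28,44],
  [28,42],
  [28,42,44],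
  [28,43],
  [28,43,44],
  [28,40],
  [28,40,44],
  [28,40,42],
  [28,40,42,44],
  [28,40,43],
  [28,40,43,44],
  [28,41],
  [28,41,44],
  [28,41,42],
  [28,41,42,44],
  [28,41,43],
  [28,41,43,44],
  [28,34],
  [28,34,44],
  [28,34,42],
  [28,34,42,44],
  [28,34,43],
  [28,34,43,44],
  [28,34,40],
  [28,34,40,44],
  [28,34,40,42],
  [28,34,40,42,44],
  [28,34,40,43],
  [28,34,40,43,44],
  [28,34,41],
  [28,34,41,44],
  [28,34,41,42],
  [28,34,41,42,44],
  [28,34,41,43],
  [28,34,41,43,44],
  [28,35],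
  [28,35,44],
  [28,35,42],
  [28,35,42,44],
  [28,35,43],
  [28,35,43,44],
  [28,35,40],
  [28,35,40,44],
  [28,35,40,42],
  [28,35,40,42,44],
  [28,35,40,43],
  [28,35,40,43,44],
  [28,35,41],
  [28,35,41,44],
  [28,35,41,42],
  [28,35,41,42,44],
  [28,35,41,43],
  [28,35,41,43,44],
  [28,36],
  [28,36,34],
  [28,36,35],
  [26],
  [26,40],
  [26,38],
  [26,30],
  [26,30,38],
  [26,30,39],
  [26,36],
  [26,36,40],
  [26,36,38],
  [26,37],
  [26,37,40],
  [26,37,38],
  [26,28],
  [26,28,40],
  [26,28,41],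
  [24],
  [24,42],
  [24,38],
  [24,32],
  [24,32,38],
  [24,32,39],
  [24,36],
  [24,36,42],
  [24,36,38],
  [24,37],
  [24,37,42],
  [24,37,38],
  [24,28],
  [24,28,42],
  [24,28,43],
  [24,26],
  [24,26,42],
  [24,26,32],
  [24,26,36],
  [24,26,36,32,38],
  [24,26,37],
  [24,26,37,32,39],
  [24,27],
  [24,27,42],
  [24,27,32],
  [24,27,36],
  [24,27,36,32,39],
  [24,27,37],
  [24,27,37,32,38]]

/-- Certificates at step 10. -/
def steps10 : List (Option (ℕ × List ℕ × List ℕ)) := [
  some (0,[],[]),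
  some (1,[],[]),
  some (1,[24],[]),
  some (2,[],[]),
  some (2,[1],[]),
  some (2,[0],[]),
  some (3,[],[]),
  some (3,[3],[]),
  some (3,[2],[]),
  some (4,[],[]),
  some (4,[1],[]),
  some (4,[0],[]),
  some (5,[],[]),
  some (5,[0],[]),
  some (5,[1],[]),
  some (6,[],[]),
  some (6,[6],[]),
  some (6,[7],[]),
  some (7,[],[]),
  some (7,[1],[]),
  some (7,[0],[]),
  some (8,[],[]),
  some (8,[0],[]),
  some (8,[1],[]),
  some (9,[],[]),
  some (9,[3],[]),
  some (9,[2],[]),
  some (10,[],[]),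
  some (10,[1],[]),
  some (10,[0],[]),
  some (11,[],[]),
  some (11,[0],[]),
  some (11,[1],[]),
  some (12,[],[]),
  some (12,[2],[]),
  some (12,[3],[]),
  some (13,[],[]),
  some (13,[1],[]),
  some (13,[0],[]),
  some (14,[],[]),
  some (14,[0],[]),
  some (14,[1],[]),
  some (15,[],[]),
  some (16,[],[]),
  some (17,[],[]),
  some (18,[],[]),
  some (18,[6],[]),
  some (18,[7],[]),
  some (19,[],[]),
  some (20,[],[]),
  some (21,[],[]),
  some (22,[],[]),
  some (22,[3],[]),
  some (22,[2],[]),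
  some (23,[],[]),
  some (24,[],[]),
  some (25,[],[]),
  some (26,[],[]),
  some (26,[3,7],[]),
  some (26,[2,6],[]),
  some (27,[],[]),
  some (28,[],[]),
  some (29,[],[]),
  some (30,[],[]),
  some (30,[3,6],[]),
  some (30,[2,7],[]),
  some (31,[],[]),
  some (32,[],[]),
  some (33,[],[]),
  some (34,[],[]),
  some (34,[1],[]),
  some (34,[0],[]),
  some (35,[],[]),
  some (36,[],[]),
  some (37,[],[]),
  some (38,[],[]),
  some (38,[1,7],[]),
  some (38,[0,6],[]),
  some (39,[],[]),
  some (40,[],[]),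
  some (41,[],[]),
  some (42,[],[]),
  some (42,[1,6],[]),
  some (42,[0,7],[]),
  some (43,[],[]),
  some (44,[],[]),
  some (45,[],[]),
  some (46,[],[]),
  some (46,[1,2],[]),
  some (46,[0,3],[]),
  some (47,[],[]),
  some (48,[],[]),
  some (49,[],[]),
  some (50,[],[]),
  some (51,[],[]),
  some (52,[],[]),
  some (53,[],[]),
  some (54,[],[]),
  some (55,[],[]),
  some (56,[],[]),
  some (56,[1,3],[]),
  some (56,[0,2],[]),
  some (57,[],[]),
  some (58,[],[]),
  some (59,[],[]),
  some (60,[],[]),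
  some (61,[],[]),
  some (62,[],[]),
  some (63,[],[]),
  some (63,[15],[]),
  some (63,[14],[]),
  some (64,[],[]),
  some (64,[6],[]),
  some (64,[7],[]),
  some (65,[],[]),
  some (65,[15],[]),
  some (65,[14],[]),
  some (66,[],[]),
  some (66,[15],[]),
  some (66,[14],[]),
  some (67,[],[]),
  some (67,[15],[]),
  some (67,[14],[]),
  some (68,[],[]),
  some (68,[15],[]),
  some (68,[14],[]),
  some (69,[],[]),
  some (70,[],[]),
  some (70,[25],[]),
  some (71,[],[]),
  some (72,[],[]),
  some (72,[25],[]),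
  some (73,[],[]),
  some (74,[],[]),
  some (74,[25],[]),
  some (75,[],[]),
  some (76,[],[]),
  some (76,[25],[]),
  some (77,[],[]),
  some (78,[],[]),
  some (78,[25],[]),
  some (79,[],[]),
  some (80,[],[]),
  some (80,[25],[]),
  some (81,[],[]),
  some (82,[],[]),
  some (82,[25],[]),
  some (83,[],[]),
  some (84,[],[]),
  some (84,[25],[]),
  some (85,[],[]),
  some (86,[],[]),
  some (86,[25],[]),
  some (87,[],[]),
  some (88,[],[]),
  some (88,[25],[]),
  some (89,[],[]),
  some (90,[],[]),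
  some (90,[25],[]),
  some (91,[],[]),
  some (92,[],[]),
  some (92,[25],[]),
  some (93,[],[]),
  some (94,[],[]),
  some (94,[25],[]),
  some (95,[],[]),
  some (96,[],[]),
  some (96,[25],[]),
  some (97,[],[]),
  some (98,[],[]),
  some (98,[25],[]),
  some (99,[],[]),
  some (100,[],[]),
  some (100,[25],[]),
  some (101,[],[]),
  some (102,[],[]),
  some (102,[25],[]),
  some (103,[],[]),
  some (104,[],[]),
  some (104,[25],[]),
  some (105,[],[]),
  some (106,[],[]),
  some (106,[25],[]),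
  some (107,[],[]),
  some (108,[],[]),
  some (108,[25],[]),
  some (109,[],[]),
  some (110,[],[]),
  some (110,[25],[]),
  some (111,[],[]),
  some (112,[],[]),
  some (112,[25],[]),
  some (113,[],[]),
  some (114,[],[]),
  some (114,[25],[]),
  some (115,[],[]),
  some (116,[],[]),
  some (116,[25],[]),
  some (117,[],[]),
  some (118,[],[]),
  some (118,[25],[]),
  some (119,[],[]),
  some (120,[],[]),
  some (120,[25],[]),
  some (121,[],[]),
  some (122,[],[]),
  some (122,[25],[]),
  some (123,[],[]),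
  some (123,[15],[]),
  some (123,[14],[]),
  some (124,[],[]),
  some (124,[15],[]),
  some (124,[14],[]),
  some (125,[],[]),
  some (125,[15],[]),
  some (125,[14],[]),
  some (126,[],[]),
  some (126,[16],[]),
  some (126,[17],[]),
  some (127,[],[]),
  some (127,[3],[]),
  some (127,[2],[]),
  some (128,[],[]),
  some (128,[16],[]),
  some (128,[17],[]),
  some (129,[],[]),
  some (129,[16],[]),
  some (129,[17],[]),
  some (130,[],[]),
  some (130,[16],[]),
  some (130,[17],[]),
  some (131,[],[]),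
  some (131,[16],[]),
  some (131,[17],[]),
  some (132,[],[]),
  some (132,[15],[]),
  some (132,[14],[]),
  some (133,[],[]),
  some (133,[3],[]),
  some (133,[2],[]),
  some (134,[],[]),
  some (134,[15],[47]),
  some (134,[14],[46]),
  none,
  none,
  none,
  none,
  none,
  none,
  none,
  none,
  none,
  some (135,[],[]),
  some (135,[14],[]),
  some (135,[15],[]),
  some (136,[],[]),
  some (136,[3],[]),
  some (136,[2],[]),
  some (137,[],[]),
  some (137,[14],[46]),
  some (137,[15],[47]),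
  none,
  none,
  none,
  none,
  none,
  none,
  none,
  none,
  none,
  some (138,[],[]),
  some (138,[16],[46]),
  some (138,[17],[47]),
  some (139,[],[]),
  some (139,[16],[46]),
  some (139,[17],[47]),
  some (140,[],[]),
  some (140,[16],[46]),
  some (140,[17],[47]),
  some (141,[],[]),
  some (141,[18],[]),
  some (141,[19],[]),
  some (142,[],[]),
  some (142,[1],[]),
  some (142,[0],[]),
  some (143,[],[]),
  some (143,[18],[]),
  some (143,[19],[]),
  some (144,[],[]),
  some (144,[18],[]),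
  some (144,[19],[]),
  some (145,[],[]),
  some (145,[18],[]),
  some (145,[19],[]),
  some (146,[],[]),
  some (146,[18],[]),
  some (146,[19],[]),
  some (147,[],[]),
  some (147,[15],[]),
  some (147,[14],[]),
  some (148,[],[]),
  some (148,[1],[]),
  some (148,[0],[]),
  some (149,[],[]),
  some (149,[15],[47]),
  some (149,[14],[46]),
  none,
  none,
  none,
  none,
  none,
  none,
  none,
  none,
  none,
  some (150,[],[]),
  some (150,[14],[]),
  some (150,[15],[]),
  some (151,[],[]),
  some (151,[1],[]),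
  some (151,[0],[]),
  some (152,[],[]),
  some (152,[14],[46]),
  some (152,[15],[47]),
  none,
  none,
  none,
  none,
  none,
  none,
  none,
  none,
  none,
  some (153,[],[]),
  some (153,[18],[46]),
  some (153,[19],[47]),
  some (154,[],[]),
  some (154,[18],[46]),
  some (154,[19],[47]),
  some (155,[],[]),
  some (155,[18],[46]),
  some (155,[19],[47]),
  some (156,[],[]),
  some (156,[16],[]),
  some (156,[17],[]),
  some (157,[],[]),
  some (157,[1],[]),
  some (157,[0],[]),
  none,
  none,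
  none,
  some (158,[],[]),
  some (158,[16],[46]),
  some (158,[17],[47]),
  none,
  none,
  none,
  none,
  none,
  none,
  some (159,[],[]),
  some (159,[15],[]),
  some (159,[14],[]),
  none,
  none,
  none,
  none,
  none,
  none,
  some (160,[],[]),
  some (160,[15],[47]),
  some (160,[14],[46]),
  none,
  none,
  none,
  some (161,[],[]),
  some (161,[14],[]),
  some (161,[15],[]),
  none,
  none,
  none,
  none,
  none,
  none,
  none,
  none,
  none,
  some (162,[],[]),
  some (162,[14],[47]),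
  some (162,[15],[46]),
  some (163,[],[]),
  some (163,[17],[]),
  some (163,[16],[]),
  some (164,[],[]),
  some (164,[1],[]),
  some (164,[0],[]),
  none,
  none,
  none,
  some (165,[],[]),
  some (165,[17],[47]),
  some (165,[16],[46]),
  none,
  none,
  none,
  none,
  none,
  none,
  some (166,[],[]),
  some (166,[15],[]),
  some (166,[14],[]),
  none,
  none,
  none,
  none,
  none,
  none,
  none,
  none,
  none,
  some (167,[],[]),
  some (167,[15],[46]),
  some (167,[14],[47]),
  some (168,[],[]),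
  some (168,[14],[]),
  some (168,[15],[]),
  none,
  none,
  none,
  none,
  none,
  none,
  some (169,[],[]),
  some (169,[14],[46]),
  some (169,[15],[47]),
  none,
  none,
  none]

/-- Representatives at step 11. -/
def reps11 : List (List ℕ) := [
  [],
  [46],
  [44],
  [42],
  [40],
  [40,42],
  [40,43],
  [34],
  [34,42],
  [34,43],
  [34,40],
  [34,40,42],
  [34,40,43],
  [34,41],
  [34,41,42],
  [34,41,43],
  [38],
  [38,44],
  [38,45],
  [38,34],
  [32],
  [32,44],
  [32,45],
  [32,40],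
  [32,38],
  [32,38,44],
  [32,38,45],
  [32,38,40],
  [32,39],
  [32,39,44],
  [32,39,45],
  [32,39,40],
  [30],
  [30,44],
  [30,45],
  [30,42],
  [30,38],
  [30,38,44],
  [30,38,45],
  [30,38,42],
  [30,39],
  [30,39,44],
  [30,39,45],
  [30,39,42],
  [30,32],
  [30,32,44],
  [30,32,45],
  [30,32,42],
  [30,32,38],
  [30,32,38,44],
  [30,32,38,45],
  [30,32,39],
  [30,32,39,44],
  [30,32,39,45],
  [30,33],
  [30,33,44],
  [30,33,45],
  [30,33,42],
  [30,33,38],
  [30,33,38,44],
  [30,33,38,45],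
  [30,33,39],
  [30,33,39,44],
  [30,33,39,45],
  [36],
  [36,46],
  [36,47],
  [36,34],
  [36,32],
  [36,30],
  [28],
  [28,44],
  [28,42],
  [28,42,44],
  [28,43],
  [28,43,44],
  [28,40],
  [28,40,44],
  [28,40,42],
  [28,40,42,44],
  [28,40,43],
  [28,40,43,44],
  [28,41],
  [28,41,44],
  [28,41,42],
  [28,41,42,44],
  [28,41,43],
  [28,41,43,44],
  [28,34],
  [28,34,44],
  [28,34,42],
  [28,34,42,44],
  [28,34,43],
  [28,34,43,44],
  [28,34,40],
  [28,34,40,44],
  [28,34,40,42],
  [28,34,40,42,44],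
  [28,34,40,43],
  [28,34,40,43,44],
  [28,34,41],
  [28,34,41,44],
  [28,34,41,42],
  [28,34,41,42,44],
  [28,34,41,43],
  [28,34,41,43,44],
  [28,35],
  [28,35,44],
  [28,35,42],
  [28,35,42,44],
  [28,35,43],
  [28,35,43,44],
  [28,35,40],
  [28,35,40,44],
  [28,35,40,42],
  [28,35,40,42,44],
  [28,35,40,43],
  [28,35,40,43,44],
  [28,35,41],
  [28,35,41,44],
  [28,35,41,42],
  [28,35,41,42,44],
  [28,35,41,43],
  [28,35,41,43,44],
  [28,36],
  [26],
  [26,46],
  [26,47],
  [26,40],
  [26,38],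
  [26,30],
  [26,36],
  [26,36,46],
  [26,36,47],
  [26,36,40],
  [26,36,38],
  [26,37],
  [26,37,46],
  [26,37,47],
  [26,37,40],
  [26,37,38],
  [26,28],
  [24],
  [24,46],
  [24,47],
  [24,42],
  [24,38],
  [24,32],
  [24,36],
  [24,36,46],
  [24,36,47],
  [24,36,42],
  [24,36,38],
  [24,37],
  [24,37,46],
  [24,37,47],
  [24,37,42],
  [24,37,38],
  [24,28],
  [24,26],
  [24,26,46],
  [24,26,47],
  [24,26,42],
  [24,26,32],
  [24,26,36],
  [24,26,36,46],
  [24,26,36,47],
  [24,26,37],
  [24,26,37,46],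
  [24,26,37,47],
  [24,27],
  [24,27,46],
  [24,27,47],
  [24,27,42],
  [24,27,32],
  [24,27,36],
  [24,27,36,46],
  [24,27,36,47],
  [24,27,37],
  [24,27,37,46],
  [24,27,37,47]]

/-- Certificates at step 11. -/
def steps11 : List (Option (ℕ × List ℕ × List ℕ)) := [
  some (0,[],[]),
  some (1,[],[]),
  some (1,[25],[]),
  some (2,[],[]),
  some (2,[5],[]),
  some (2,[4],[]),
  some (3,[],[]),
  some (3,[8],[]),
  some (3,[9],[]),
  some (4,[],[]),
  some (4,[10],[]),
  some (4,[11],[]),
  some (5,[],[]),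
  some (5,[8],[]),
  some (5,[9],[]),
  some (6,[],[]),
  some (6,[9],[]),
  some (6,[8],[]),
  some (7,[],[]),
  some (7,[12],[]),
  some (7,[13],[]),
  some (8,[],[]),
  some (8,[8],[]),
  some (8,[9],[]),
  some (9,[],[]),
  some (9,[9],[]),
  some (9,[8],[]),
  some (10,[],[]),
  some (10,[10],[]),
  some (10,[11],[]),
  some (11,[],[]),
  some (11,[8],[]),
  some (11,[9],[]),
  some (12,[],[]),
  some (12,[9],[]),
  some (12,[8],[]),
  some (13,[],[]),
  some (13,[11],[]),
  some (13,[10],[]),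
  some (14,[],[]),
  some (14,[8],[]),
  some (14,[9],[]),
  some (15,[],[]),
  some (15,[9],[]),
  some (15,[8],[]),
  some (16,[],[]),
  some (16,[15],[]),
  some (16,[14],[]),
  some (17,[],[]),
  some (17,[5],[]),
  some (17,[4],[]),
  some (18,[],[]),
  some (18,[4],[]),
  some (18,[5],[]),
  some (19,[],[]),
  some (19,[12],[]),
  some (19,[13],[]),
  some (20,[],[]),
  some (20,[17],[]),
  some (20,[16],[]),
  some (21,[],[]),
  some (21,[5],[]),
  some (21,[4],[]),
  some (22,[],[]),
  some (22,[4],[]),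
  some (22,[5],[]),
  some (23,[],[]),
  some (23,[10],[]),
  some (23,[11],[]),
  some (24,[],[]),
  some (24,[15],[]),
  some (24,[14],[]),
  some (25,[],[]),
  some (25,[5],[]),
  some (25,[4],[]),
  some (26,[],[]),
  some (26,[4],[]),
  some (26,[5],[]),
  some (27,[],[]),
  some (27,[10],[]),
  some (27,[11],[]),
  some (28,[],[]),
  some (28,[14],[]),
  some (28,[15],[]),
  some (29,[],[]),
  some (29,[5],[]),
  some (29,[4],[]),
  some (30,[],[]),
  some (30,[4],[]),
  some (30,[5],[]),
  some (31,[],[]),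
  some (31,[10],[]),
  some (31,[11],[]),
  some (32,[],[]),
  some (32,[19],[]),
  some (32,[18],[]),
  some (33,[],[]),
  some (33,[5],[]),
  some (33,[4],[]),
  some (34,[],[]),
  some (34,[4],[]),
  some (34,[5],[]),
  some (35,[],[]),
  some (35,[8],[]),
  some (35,[9],[]),
  some (36,[],[]),
  some (36,[15],[]),
  some (36,[14],[]),
  some (37,[],[]),
  some (37,[5],[]),
  some (37,[4],[]),
  some (38,[],[]),
  some (38,[4],[]),
  some (38,[5],[]),
  some (39,[],[]),
  some (39,[8],[]),
  some (39,[9],[]),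
  some (40,[],[]),
  some (40,[14],[]),
  some (40,[15],[]),
  some (41,[],[]),
  some (41,[5],[]),
  some (41,[4],[]),
  some (42,[],[]),
  some (42,[4],[]),
  some (42,[5],[]),
  some (43,[],[]),
  some (43,[8],[]),
  some (43,[9],[]),
  some (44,[],[]),
  some (44,[17],[]),
  some (44,[16],[]),
  some (45,[],[]),
  some (45,[5],[]),
  some (45,[4],[]),
  some (46,[],[]),
  some (46,[4],[]),
  some (46,[5],[]),
  some (47,[],[]),
  some (47,[8],[]),
  some (47,[9],[]),
  some (48,[],[]),
  some (48,[15],[]),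
  some (48,[14],[]),
  some (49,[],[]),
  some (49,[5],[]),
  some (49,[4],[]),
  some (50,[],[]),
  some (50,[4],[]),
  some (50,[5],[]),
  some (51,[],[]),
  some (51,[14],[]),
  some (51,[15],[]),
  some (52,[],[]),
  some (52,[5],[]),
  some (52,[4],[]),
  some (53,[],[]),
  some (53,[4],[]),
  some (53,[5],[]),
  some (54,[],[]),
  some (54,[16],[]),
  some (54,[17],[]),
  some (55,[],[]),
  some (55,[5],[]),
  some (55,[4],[]),
  some (56,[],[]),
  some (56,[4],[]),
  some (56,[5],[]),
  some (57,[],[]),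
  some (57,[8],[]),
  some (57,[9],[]),
  some (58,[],[]),
  some (58,[15],[]),
  some (58,[14],[]),
  some (59,[],[]),
  some (59,[5],[]),
  some (59,[4],[]),
  some (60,[],[]),
  some (60,[4],[]),
  some (60,[5],[]),
  some (61,[],[]),
  some (61,[14],[]),
  some (61,[15],[]),
  some (62,[],[]),
  some (62,[5],[]),
  some (62,[4],[]),
  some (63,[],[]),
  some (63,[4],[]),
  some (63,[5],[]),
  some (64,[],[]),
  some (65,[],[]),
  some (66,[],[]),
  some (67,[],[]),
  some (67,[12],[]),
  some (67,[13],[]),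
  some (68,[],[]),
  some (68,[17],[]),
  some (68,[16],[]),
  some (69,[],[]),
  some (69,[19],[]),
  some (69,[18],[]),
  none,
  none,
  none,
  none,
  none,
  none,
  some (70,[],[]),
  some (70,[20],[]),
  some (70,[21],[]),
  some (71,[],[]),
  some (71,[5],[]),
  some (71,[4],[]),
  some (72,[],[]),
  some (72,[8],[]),
  some (72,[9],[]),
  some (73,[],[]),
  some (73,[5],[]),
  some (73,[4],[]),
  some (74,[],[]),
  some (74,[9],[]),
  some (74,[8],[]),
  some (75,[],[]),
  some (75,[5],[]),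
  some (75,[4],[]),
  some (76,[],[]),
  some (76,[10],[]),
  some (76,[11],[]),
  some (77,[],[]),
  some (77,[5],[]),
  some (77,[4],[]),
  some (78,[],[]),
  some (78,[8],[]),
  some (78,[9],[]),
  some (79,[],[]),
  some (79,[5],[]),
  some (79,[4],[]),
  some (80,[],[]),
  some (80,[9],[]),
  some (80,[8],[]),
  some (81,[],[]),
  some (81,[5],[]),
  some (81,[4],[]),
  some (82,[],[]),
  some (82,[11],[]),
  some (82,[10],[]),
  some (83,[],[]),
  some (83,[5],[]),
  some (83,[4],[]),
  some (84,[],[]),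
  some (84,[8],[]),
  some (84,[9],[]),
  some (85,[],[]),
  some (85,[5],[]),
  some (85,[4],[]),
  some (86,[],[]),
  some (86,[9],[]),
  some (86,[8],[]),
  some (87,[],[]),
  some (87,[5],[]),
  some (87,[4],[]),
  some (88,[],[]),
  some (88,[12],[]),
  some (88,[13],[]),
  some (89,[],[]),
  some (89,[5],[]),
  some (89,[4],[]),
  some (90,[],[]),
  some (90,[8],[]),
  some (90,[9],[]),
  some (91,[],[]),
  some (91,[5],[]),
  some (91,[4],[]),
  some (92,[],[]),
  some (92,[9],[]),
  some (92,[8],[]),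
  some (93,[],[]),
  some (93,[5],[]),
  some (93,[4],[]),
  some (94,[],[]),
  some (94,[10],[]),
  some (94,[11],[]),
  some (95,[],[]),
  some (95,[5],[]),
  some (95,[4],[]),
  some (96,[],[]),
  some (96,[8],[]),
  some (96,[9],[]),
  some (97,[],[]),
  some (97,[5],[]),
  some (97,[4],[]),
  some (98,[],[]),
  some (98,[9],[]),
  some (98,[8],[]),
  some (99,[],[]),
  some (99,[5],[]),
  some (99,[4],[]),
  some (100,[],[]),
  some (100,[11],[]),
  some (100,[10],[]),
  some (101,[],[]),
  some (101,[5],[]),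
  some (101,[4],[]),
  some (102,[],[]),
  some (102,[8],[]),
  some (102,[9],[]),
  some (103,[],[]),
  some (103,[5],[]),
  some (103,[4],[]),
  some (104,[],[]),
  some (104,[9],[]),
  some (104,[8],[]),
  some (105,[],[]),
  some (105,[5],[]),
  some (105,[4],[]),
  some (106,[],[]),
  some (106,[13],[]),
  some (106,[12],[]),
  some (107,[],[]),
  some (107,[5],[]),
  some (107,[4],[]),
  some (108,[],[]),
  some (108,[8],[]),
  some (108,[9],[]),
  some (109,[],[]),
  some (109,[5],[]),
  some (109,[4],[]),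
  some (110,[],[]),
  some (110,[9],[]),
  some (110,[8],[]),
  some (111,[],[]),
  some (111,[5],[]),
  some (111,[4],[]),
  some (112,[],[]),
  some (112,[10],[]),
  some (112,[11],[]),
  some (113,[],[]),
  some (113,[5],[]),
  some (113,[4],[]),
  some (114,[],[]),
  some (114,[8],[]),
  some (114,[9],[]),
  some (115,[],[]),
  some (115,[5],[]),
  some (115,[4],[]),
  some (116,[],[]),
  some (116,[9],[]),
  some (116,[8],[]),
  some (117,[],[]),
  some (117,[5],[]),
  some (117,[4],[]),
  some (118,[],[]),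
  some (118,[11],[]),
  some (118,[10],[]),
  some (119,[],[]),
  some (119,[5],[]),
  some (119,[4],[]),
  some (120,[],[]),
  some (120,[8],[]),
  some (120,[9],[]),
  some (121,[],[]),
  some (121,[5],[]),
  some (121,[4],[]),
  some (122,[],[]),
  some (122,[9],[]),
  some (122,[8],[]),
  some (123,[],[]),
  some (123,[5],[]),
  some (123,[4],[]),
  some (124,[],[]),
  some (124,[20],[]),
  some (124,[21],[]),
  none,
  none,
  none,
  none,
  none,
  none,
  some (125,[],[]),
  some (126,[],[]),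
  some (127,[],[]),
  some (128,[],[]),
  some (128,[10],[]),
  some (128,[11],[]),
  some (129,[],[]),
  some (129,[15],[]),
  some (129,[14],[]),
  some (130,[],[]),
  some (130,[19],[]),
  some (130,[18],[]),
  none,
  none,
  none,
  none,
  none,
  none,
  some (131,[],[]),
  some (132,[],[]),
  some (133,[],[]),
  some (134,[],[]),
  some (134,[10,12],[]),
  some (134,[11,13],[]),
  some (135,[],[]),
  some (135,[15,17],[]),
  some (135,[14,16],[]),
  some (136,[],[]),
  some (137,[],[]),
  some (138,[],[]),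
  some (139,[],[]),
  some (139,[10,13],[]),
  some (139,[11,12],[]),
  some (140,[],[]),
  some (140,[15,16],[]),
  some (140,[14,17],[]),
  some (141,[],[]),
  some (141,[20],[]),
  some (141,[21],[]),
  none,
  none,
  none,
  none,
  none,
  none,
  some (142,[],[]),
  some (143,[],[]),
  some (144,[],[]),
  some (145,[],[]),
  some (145,[8],[]),
  some (145,[9],[]),
  some (146,[],[]),
  some (146,[15],[]),
  some (146,[14],[]),
  some (147,[],[]),
  some (147,[17],[]),
  some (147,[16],[]),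
  none,
  none,
  none,
  none,
  none,
  none,
  some (148,[],[]),
  some (149,[],[]),
  some (150,[],[]),
  some (151,[],[]),
  some (151,[8,12],[]),
  some (151,[9,13],[]),
  some (152,[],[]),
  some (152,[15,19],[]),
  some (152,[14,18],[]),
  some (153,[],[]),
  some (154,[],[]),
  some (155,[],[]),
  some (156,[],[]),
  some (156,[8,13],[]),
  some (156,[9,12],[]),
  some (157,[],[]),
  some (157,[15,18],[]),
  some (157,[14,19],[]),
  some (158,[],[]),
  some (158,[20],[]),
  some (158,[21],[]),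
  none,
  none,
  none,
  none,
  none,
  none,
  some (159,[],[]),
  some (160,[],[]),
  some (161,[],[]),
  some (162,[],[]),
  some (162,[8,11],[]),
  some (162,[9,10],[]),
  some (163,[],[]),
  some (163,[17,18],[]),
  some (163,[16,19],[]),
  some (164,[],[]),
  some (165,[],[]),
  some (166,[],[]),
  none,
  none,
  none,
  some (167,[],[]),
  some (168,[],[]),
  some (169,[],[]),
  none,
  none,
  none,
  some (170,[],[]),
  some (171,[],[]),
  some (172,[],[]),
  some (173,[],[]),
  some (173,[8,10],[]),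
  some (173,[9,11],[]),
  some (174,[],[]),
  some (174,[17,19],[]),
  some (174,[16,18],[]),
  some (175,[],[]),
  some (176,[],[]),
  some (177,[],[]),
  none,
  none,
  none,
  some (178,[],[]),
  some (179,[],[]),
  some (180,[],[]),
  none,
  none,
  none]

/-- All representatives. -/
def levelReps : List (List (List ℕ)) := [[[]],reps0,reps1,reps2,reps3,reps4,reps5,reps6,reps7,reps8,reps9,reps10,reps11]

/-- All certificates. -/
def levelSteps : List (List (Option (ℕ × List ℕ × List ℕ))) := [steps0,steps1,steps2,steps3,steps4,steps5,steps6,steps7,steps8,steps9,steps10,steps11]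

/-- The thirteen elements as words in the fundamental root elements. -/
def classWords : List (List ℕ) := [
  [0],
  [0,2],
  [0,4],
  [0,5],
  [0,6],
  [0,7],
  [4,6],
  [4,7],
  [0,4,6],
  [0,4,7],
  [0,5,6],
  [0,5,7],
  [0,2,0,4,2,0,6,3,0,4,3,6]]

/-- The last step. -/
def finals : List (Option (ℕ × List ℕ)) := [
  none,
  some (0,[18,29,18,12,35,12]),
  some (0,[34,13,34]),
  some (0,[32,15,32]),
  some (0,[30,17,30]),
  some (6,[8,39,8]),
  some (7,[38,9,38]),
  some (0,[10,37,10,12,35,12]),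
  some (5,[32,15,32]),
  some (4,[14,33,14]),
  some (3,[30,17,30]),
  some (11,[22,25,22,20,27,20,10,37,10,18,29,18]),
  some (10,[22,25,22,20,27,20,10,37,10,18,29,18]),
  some (2,[16,31,16]),
  some (9,[22,25,22,20,27,20,10,37,10,18,29,18]),
  some (8,[22,25,22,20,27,20,10,37,10,18,29,18]),
  some (0,[28,19,28]),
  some (7,[20,27,20,8,39,8]),
  some (6,[20,27,20,8,39,8]),
  some (1,[10,37,10,12,35,12,28]),
  some (0,[10,37,10,14,33,14]),
  some (4,[10,37,10,14,33,14]),
  some (5,[10,37,10,14,33,14]),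
  some (1,[26,21,26,12,35,12,28]),
  some (3,[28,19,28]),
  some (10,[26,21,26,10,37,10,18,29,18]),
  some (11,[26,21,26,10,37,10,18,29,18]),
  some (1,[26,21,26,12,35,12,33,28]),
  some (2,[18,29,18]),
  some (8,[26,21,26,10,37,10,18,29,18]),
  some (9,[26,21,26,10,37,10,18,29,18]),
  some (1,[30,17,30,21,32,26]),
  some (0,[10,37,10,16,31,16]),
  some (2,[10,37,10,16,31,16]),
  some (3,[10,37,10,16,31,16]),
  some (1,[24,23,24,12,35,12,28]),
  some (5,[28,19,28]),
  some (9,[24,23,24,10,37,10,18,29,18]),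
  some (11,[24,23,24,10,37,10,18,29,18]),
  some (1,[24,23,24,12,35,12,31,28]),
  some (4,[18,29,18]),
  some (8,[24,23,24,10,37,10,18,29,18]),
  some (10,[24,23,24,10,37,10,18,29,18]),
  some (1,[32,15,32,23,30,24]),
  some (6,[18,29,18]),
  some (8,[24,23,24,20,27,20,18,29,18]),
  some (11,[22,25,22,20,27,20,18,29,18]),
  some (1,[24,23,24,11,12,35,12,28]),
  some (11,[28,19,28]),
  some (1,[26,24,10,12,35,12,44,33,31,29]),
  some (12,[36,25,19]),
  some (8,[18,29,18]),
  some (12,[36,21,27,22,19]),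
  some (1,[26,24,11,34,13,34,44,32,30,29]),
  some (7,[28,19,28]),
  some (9,[24,23,24,20,27,20,18,29,18]),
  some (10,[22,25,22,20,27,20,18,29,18]),
  some (1,[24,23,24,10,12,35,12,28]),
  some (9,[28,19,28]),
  some (12,[10,37,10,22,11,19]),
  some (1,[27,24,10,34,13,34,45,32,31,29]),
  some (10,[18,29,18]),
  some (1,[27,24,11,12,35,12,45,33,30,29]),
  some (12,[26,25,20,11,19]),
  some (0,[]),
  some (6,[14,33,14,8,39,8]),
  some (7,[14,33,14,8,39,8]),
  some (1,[22,25,22,20,27,20]),
  some (1,[26,21,26]),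
  some (1,[24,23,24]),
  some (0,[10,37,10,18,29,18]),
  some (1,[34,13,34,28]),
  some (2,[10,37,10,18,29,18]),
  some (1,[34,13,34,32,28]),
  some (3,[10,37,10,18,29,18]),
  some (1,[34,13,34,33,28]),
  some (4,[10,37,10,18,29,18]),
  some (1,[34,13,34,30,28]),
  some (8,[10,37,10,18,29,18]),
  some (1,[34,13,34,45,32,30,28]),
  some (10,[10,37,10,18,29,18]),
  some (1,[34,13,34,44,33,30,28]),
  some (5,[10,37,10,18,29,18]),
  some (1,[34,13,34,31,28]),
  some (9,[10,37,10,18,29,18]),
  some (1,[34,13,34,44,32,31,28]),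
  some (11,[10,37,10,18,29,18]),
  some (1,[34,13,34,45,33,31,28]),
  some (7,[20,27,20,18,29,18]),
  some (1,[11,34,13,34,28]),
  some (9,[20,27,20,18,29,18]),
  some (1,[27,11,34,13,34,32,28]),
  some (10,[26,21,26,18,29,18]),
  some (1,[26,11,34,13,34,33,28]),
  some (10,[22,25,22,18,29,18]),
  some (1,[25,11,34,13,34,30,28]),
  some (1,[27,25,11,12,35,12,45,32,30,29]),
  some (12,[24,23,24,10,37,10,2,45,2,2,45,2,31,21,19]),
  some (12,[20,26,25,11,19]),
  some (10,[20,27,20,36,19,32,24,28]),
  some (9,[24,23,24,18,29,18]),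
  some (1,[24,11,34,13,34,31,28]),
  some (12,[22,11,19]),
  some (9,[22,25,22,36,19,32,24,28]),
  some (1,[26,24,11,12,35,12,45,33,31,29]),
  some (12,[36,11,36,19,38,32]),
  some (6,[20,27,20,18,29,18]),
  some (1,[10,34,13,34,28]),
  some (8,[20,27,20,18,29,18]),
  some (1,[26,10,34,13,34,32,28]),
  some (11,[26,21,26,18,29,18]),
  some (1,[27,10,34,13,34,33,28]),
  some (8,[22,25,22,18,29,18]),
  some (1,[24,10,34,13,34,30,28]),
  some (12,[36,20,26,22,19]),
  some (8,[36,11,36,19,39,27,25,28]),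
  some (1,[27,24,10,12,35,12,44,33,30,29]),
  some (12,[20,27,20,19,33]),
  some (11,[24,23,24,18,29,18]),
  some (1,[25,10,34,13,34,31,28]),
  some (1,[26,25,10,12,35,12,44,32,31,29]),
  some (12,[22,25,22,26,19,30]),
  some (12,[20,27,20,36,25,19]),
  some (11,[36,11,36,19,39,26,24,28]),
  some (1,[28]),
  some (0,[6,41,6,12,35,12]),
  some (4,[8,39,8,14,33,14]),
  some (5,[8,39,8,14,33,14]),
  some (1,[28,19,28,26,21,26,12,35,12,28]),
  some (1,[28,19,28,26,21,26,28]),
  some (1,[24,23,24,6,41,6,12,35,12]),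
  some (2,[]),
  some (8,[18,29,18,20,27,20,10,37,10,18,29,18]),
  some (9,[18,29,18,20,27,20,10,37,10,18,29,18]),
  some (1,[30,17,30,24,23,24,21,32,26]),
  some (1,[28,19,28,21,32,26]),
  some (3,[2,45,2,2,45,2]),
  some (10,[18,29,18,20,27,20,10,37,10,18,29,18]),
  some (11,[18,29,18,20,27,20,10,37,10,18,29,18]),
  some (1,[22,25,22,18,29,18,20,33,27]),
  some (1,[28,19,28,26,21,26,33,28]),
  some (1,[6,41,6,12,35,12]),
  some (0,[4,43,4,12,35,12]),
  some (2,[8,39,8,16,31,16]),
  some (3,[8,39,8,16,31,16]),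
  some (1,[28,19,28,24,23,24,12,35,12,28]),
  some (1,[28,19,28,24,23,24,28]),
  some (1,[26,21,26,4,43,4,12,35,12]),
  some (4,[]),
  some (8,[18,29,18,22,25,22,10,37,10,18,29,18]),
  some (10,[18,29,18,22,25,22,10,37,10,18,29,18]),
  some (1,[32,15,32,26,21,26,23,30,24]),
  some (1,[28,19,28,23,30,24]),
  some (5,[2,45,2,2,45,2]),
  some (9,[18,29,18,22,25,22,10,37,10,18,29,18]),
  some (11,[18,29,18,22,25,22,10,37,10,18,29,18]),
  some (1,[20,27,20,18,29,18,22,31,25]),
  some (1,[28,19,28,24,23,24,31,28]),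
  some (1,[4,43,4,12,35,12]),
  some (6,[]),
  some (8,[18,29,18,22,25,22,20,27,20,18,29,18]),
  some (11,[28,19,28,22,25,22,20,27,20,18,29,18]),
  some (1,[28,19,28,24,23,24,11,12,35,12,28]),
  some (1,[38,9,38,26,21,26,12,35,12,45]),
  some (8,[]),
  some (12,[18,29,18,36,26,22,20,19]),
  some (1,[18,29,18,27,25,10,12,35,12,44,32,30,29]),
  some (11,[2,45,2,2,45,2]),
  some (1,[28,19,28,26,24,10,12,35,12,44,33,31,29]),
  some (12,[38,30,28,18]),
  some (7,[2,45,2,2,45,2]),
  some (9,[18,29,18,22,25,22,20,27,20,18,29,18]),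
  some (10,[28,19,28,22,25,22,20,27,20,18,29,18]),
  some (1,[28,19,28,24,23,24,10,12,35,12,28]),
  some (1,[38,9,38,26,21,26,12,35,12,44]),
  some (10,[]),
  some (1,[28,19,28,27,24,11,12,35,12,45,33,30,29]),
  some (12,[28,19,28,26,25,20,11,19]),
  some (9,[2,45,2,2,45,2]),
  some (12,[28,19,28,10,37,10,22,11,19]),
  some (1,[18,29,18,26,25,11,12,35,12,45,32,31,29])]

/-- The squares of the classes. -/
def squares : List (List ℕ) := [
  [2,45,2,2,45,2],
  [2,45,2,2,45,2,28],
  [2,45,2,2,45,2],
  [2,45,2,2,45,2],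
  [2,45,2,2,45,2],
  [2,45,2,2,45,2],
  [2,45,2,2,45,2],
  [2,45,2,2,45,2],
  [2,45,2,2,45,2],
  [2,45,2,2,45,2],
  [2,45,2,2,45,2],
  [2,45,2,2,45,2],
  [0,47,0,0,47,0,18]]

/-- The symmetries of the diagram. -/
def diagPerms : List (List ℕ) := [[0, 1, 2, 3], [2, 1, 3, 0], [3, 1, 0, 2], [0, 1, 3, 2], [2, 1, 0, 3], [3, 1, 2, 0]]

/-- The images of the classes under the symmetries. -/
def images : List (List (ℕ × List ℕ)) := [
  [(0,[]),(1,[]),(2,[]),(3,[]),(4,[]),(5,[]),(6,[]),(7,[]),(8,[]),(9,[]),(10,[]),(11,[]),(12,[])],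
  [(0,[6,41,6,12,35,12]),(1,[6,41,6,12,35,12]),(6,[]),(7,[]),(2,[]),(3,[2,45,2,2,45,2]),(4,[]),(5,[2,45,2,2,45,2]),(8,[]),(11,[2,45,2,2,45,2]),(9,[]),(10,[2,45,2,2,45,2]),(12,[36,25,18,20,11,19])],
  [(0,[4,43,4,12,35,12]),(1,[4,43,4,12,35,12]),(4,[]),(5,[2,45,2,2,45,2]),(6,[]),(7,[2,45,2,2,45,2]),(2,[]),(3,[]),(8,[]),(10,[]),(11,[2,45,2,2,45,2]),(9,[2,45,2,2,45,2]),(12,[18,22,25,22,26,23,11,19])],
  [(0,[]),(1,[]),(4,[]),(5,[]),(2,[]),(3,[]),(6,[]),(7,[2,45,2,2,45,2]),(8,[]),(10,[]),(9,[]),(11,[]),(12,[26,25])],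
  [(0,[6,41,6,12,35,12]),(1,[6,41,6,12,35,12]),(2,[]),(3,[2,45,2,2,45,2]),(6,[]),(7,[]),(4,[]),(5,[]),(8,[]),(9,[]),(11,[2,45,2,2,45,2]),(10,[2,45,2,2,45,2]),(12,[18,20,11,19])],
  [(0,[4,43,4,12,35,12]),(1,[4,43,4,12,35,12]),(6,[]),(7,[2,45,2,2,45,2]),(4,[]),(5,[2,45,2,2,45,2]),(2,[]),(3,[2,45,2,2,45,2]),(8,[]),(11,[2,45,2,2,45,2]),(10,[]),(9,[2,45,2,2,45,2]),(12,[18,36,11,36,25,22,10,19])]]

end CfsgLib.OEightThree
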