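/-
Certificates for the elements of order three of `Ω⁺₈(3)`; produced by tools/stemsylow/oeight.
-/
import Cfsg.Agent.Lib.OEightThree.DataSteps

set_option autoImplicit false
set_option maxRecDepth 100000

namespace CfsgLib.OEightThree

/-- For each class: whether the square of `x - 1` vanishes, whether its rank exceeds two, with two factors. -/
def rankData : List (Bool × Bool × List (List ℕ) × List (List ℕ)) := [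
  (true,false,[[1,0],[0,0],[0,0],[0,0],[0,0],[0,2],[0,0],[0,0]],[[0,1,0,0,0,0,0,0],[0,0,0,0,1,0,0,0]]),
  (false,true,[[1,1,2,1,0,0,0,1],[1,1,0,1,0,1,0,1],[1,2,2,1,2,0,1,2]],[[0,1,1],[0,1,1],[2,1,1],[1,2,1],[1,2,0],[0,1,0],[1,0,0],[0,0,1]]),
  (true,true,[[2,2,2,0,1,0,2,1],[0,1,2,1,2,1,0,0],[0,0,0,0,0,0,1,1]],[[0,1,2],[0,2,1],[0,1,1],[2,1,0],[1,1,0],[2,0,0],[0,0,2],[2,1,1]]),
  (true,true,[[1,2,0,0,0,2,2,0],[1,0,2,1,1,2,2,1],[0,0,1,0,1,1,0,0]],[[0,1,0],[0,0,1],[1,2,0],[2,0,0],[1,0,2],[2,2,1],[0,1,0],[0,2,1]]),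
  (true,true,[[1,0,2,2,1,1,2,0],[1,0,0,2,1,2,2,2],[2,0,0,2,1,1,2,0]],[[0,1,1],[2,1,0],[0,1,1],[0,1,0],[1,1,1],[2,0,1],[0,2,2],[0,2,1]]),
  (true,true,[[1,1,1,1,2,2,0,0],[0,0,1,1,0,0,2,1],[1,1,0,0,0,1,2,1]],[[2,1,1],[2,1,2],[0,2,0],[1,0,1],[2,1,1],[2,2,1],[2,0,0],[2,2,0]]),
  (false,false,[[0,0],[0,0],[1,2],[0,2],[0,0],[0,0],[0,0],[0,2]],[[0,0,0,1,0,0,0,1],[0,0,0,0,0,0,1,0]]),
  (false,false,[[0,0],[0,0],[1,1],[0,1],[0,0],[0,0],[0,0],[0,2]],[[0,0,0,1,0,0,0,2],[0,0,0,0,0,0,1,0]]),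
  (false,true,[[0,2,2,2,2,0,1,0],[0,0,2,1,0,0,0,0],[0,0,2,2,2,1,1,2]],[[2,2,2],[1,2,0],[2,2,0],[2,2,1],[0,1,2],[1,1,1],[2,1,0],[1,0,2]]),
  (false,true,[[0,1,1,1,0,0,2,2],[1,0,0,2,0,2,0,1],[0,0,1,1,0,0,1,0]],[[2,1,1],[0,2,1],[2,1,2],[0,2,2],[2,2,0],[0,2,0],[1,0,2],[2,2,2]]),
  (false,true,[[1,1,1,0,0,1,2,0],[1,1,0,0,2,0,1,2],[0,0,1,1,1,2,2,0]],[[1,2,1],[1,2,2],[2,2,0],[0,2,2],[2,0,1],[0,0,2],[1,1,2],[1,2,2]]),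
  (false,true,[[1,2,0,1,0,0,2,2],[0,1,0,2,0,1,1,0],[0,2,1,0,0,2,1,1]],[[0,0,0],[1,0,0],[1,2,2],[2,1,0],[0,1,2],[0,0,0],[0,1,1],[1,0,1]]),
  (false,true,[[0,1,1,1,0,2,1,2],[0,0,0,1,1,2,2,2],[1,0,1,1,2,1,1,1]],[[1,0,1],[0,0,1],[2,1,1],[0,0,1],[0,2,0],[0,0,1],[2,0,2],[1,0,0]])]

/-- For each class: the support of its form and three witnesses. -/
def formData : List (List ℕ × List (Option (List ℕ))) := [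
  ([0,1,2],[none,none,none]),
  ([2,4,0],[some [0,0,1,0,2,0,0,0],some [0,0,1,0,1,0,0,0],some [0,0,0,0,1,0,0,0]]),
  ([0,1,2],[none,none,none]),
  ([0,1,2],[none,none,none]),
  ([0,1,2],[none,none,none]),
  ([0,1,2],[none,none,none]),
  ([6,0,1],[some [0,0,0,0,0,0,1,0],none,none]),
  ([6,0,1],[none,some [0,0,0,0,0,0,1,0],none]),
  ([6,0,1],[some [0,0,0,0,0,0,1,0],none,none]),
  ([6,0,1],[none,some [0,0,0,0,0,0,1,0],none]),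
  ([6,0,1],[none,some [0,0,0,0,0,0,1,0],none]),
  ([6,0,1],[some [0,0,0,0,0,0,1,0],none,none]),
  ([4,5,6],[some [0,0,0,0,0,0,1,0],some [0,0,0,0,1,0,0,0],none])]

end CfsgLib.OEightThree
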