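/-
Five properties separating classes of elements of order three.
-/
import Cfsg.Agent.Lib.OEightThree.DataInvariant

set_option autoImplicit false
set_option maxRecDepth 100000
set_option maxHeartbeats 800000

namespace CfsgLib.OEightThree

open Cfsg Cfsg.Lie Matrix CfsgLib.ChevClassical
open QuadraticMap (polar)

/-- The quadratic form of the model. -/
noncomputable def Qf : QuadraticForm (ZMod 3) (I → ZMod 3) := qform ChevClassical.D4.tab

theorem om_isometry (g : Om) (v : I → ZMod 3) : Qf ((g.1 : Matrix I I (ZMod 3)) *ᵥ v) = Qf v := by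
  have h : g.1 ∈ Cfsg.isometryGroup (ZMod 3) ⇑Qf := by
    refine (Subgroup.closure_le _).mpr ?_ g.2
    rintro _ ⟨r, t, rfl⟩
    exact Tab.y_mem_iso ChevClassical.D4.ok r t
  exact h v v

theorem om_polar (g : Om) (u v : I → ZMod 3) :
    polar Qf ((g.1 : Matrix I I (ZMod 3)) *ᵥ u) ((g.1 : Matrix I I (ZMod 3)) *ᵥ v) = polar Qf u v := by
  simp only [polar, ← Matrix.mulVec_add, om_isometry]

/-- The nilpotent part. -/
noncomputable def Nm (h : Om) : Matrix I I (ZMod 3) := (h.1 : Matrix I I (ZMod 3)) - 1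

/-- The form of the square of the nilpotent part. -/
noncomputable def beta (h : Om) (v : I → ZMod 3) : ZMod 3 := polar Qf v ((Nm h * Nm h) *ᵥ v)

/-- The five properties. -/
def Pred : Fin 5 → Om → Prop
  | 0 => fun h => Nm h * Nm h = 0
  | 1 => fun h => ∃ (A : Matrix (Fin 3) I (ZMod 3)) (B : Matrix I (Fin 3) (ZMod 3)), A * Nm h * B = 1
  | 2 => fun h => ∃ v, beta h v = 1
  | 3 => fun h => ∃ v, beta h v = 2
  | 4 => fun h => ∃ v, beta h v = 0 ∧ (Nm h * Nm h) *ᵥ v ≠ 0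

theorem Nm_conj (g h : Om) : Nm (g * h * g⁻¹) =
    (g.1 : Matrix I I (ZMod 3)) * Nm h * ((g.1⁻¹ : GL I (ZMod 3)) : Matrix I I (ZMod 3)) := by
  rw [Nm, Nm, mul_sub, sub_mul, mul_one, Units.mul_inv]
  rfl

theorem Nm_sq_conj (g h : Om) : Nm (g * h * g⁻¹) * Nm (g * h * g⁻¹) =
    (g.1 : Matrix I I (ZMod 3)) * (Nm h * Nm h) * ((g.1⁻¹ : GL I (ZMod 3)) : Matrix I I (ZMod 3)) := by
  rw [Nm_conj]
  simp only [mul_assoc]
  rw [← mul_assoc ((g.1⁻¹ : GL I (ZMod 3)) : Matrix I I (ZMod 3)) (g.1 : Matrix I I (ZMod 3)), Units.inv_mul, one_mul]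

theorem Nm_sq_apply (g h : Om) (v : I → ZMod 3) :
    (Nm (g * h * g⁻¹) * Nm (g * h * g⁻¹)) *ᵥ ((g.1 : Matrix I I (ZMod 3)) *ᵥ v) =
      (g.1 : Matrix I I (ZMod 3)) *ᵥ ((Nm h * Nm h) *ᵥ v) := by
  rw [Nm_sq_conj, ← Matrix.mulVec_mulVec, ← Matrix.mulVec_mulVec, Matrix.mulVec_mulVec v _ (g.1 : Matrix I I (ZMod 3)),
    Units.inv_mul, Matrix.one_mulVec]

theorem beta_conj (g h : Om) (v : I → ZMod 3) : beta (g * h * g⁻¹) ((g.1 : Matrix I I (ZMod 3)) *ᵥ v) = beta h v := by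
  rw [beta, beta, Nm_sq_apply, om_polar]

theorem pred_conj (k : Fin 5) (g h : Om) (hh : Pred k h) : Pred k (g * h * g⁻¹) := by
  fin_cases k
  · show Nm _ * Nm _ = 0
    rw [Nm_sq_conj, show Nm h * Nm h = 0 from hh, mul_zero, zero_mul]
  · obtain ⟨A, B, e⟩ := hh
    refine ⟨A * ((g.1⁻¹ : GL I (ZMod 3)) : Matrix I I (ZMod 3)), (g.1 : Matrix I I (ZMod 3)) * B, ?_⟩
    rw [Nm_conj, ← e]
    simp only [Matrix.mul_assoc]
    rw [← Matrix.mul_assoc ((g.1⁻¹ : GL I (ZMod 3)) : Matrix I I (ZMod 3)) (g.1 : Matrix I I (ZMod 3)), Units.inv_mul,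
      Matrix.one_mul, ← Matrix.mul_assoc ((g.1⁻¹ : GL I (ZMod 3)) : Matrix I I (ZMod 3)) (g.1 : Matrix I I (ZMod 3)),
      Units.inv_mul, Matrix.one_mul]
  · obtain ⟨v, e⟩ := hh; exact ⟨_, (beta_conj g h v).trans e⟩
  · obtain ⟨v, e⟩ := hh; exact ⟨_, (beta_conj g h v).trans e⟩
  · obtain ⟨v, e, hv⟩ := hh
    refine ⟨_, (beta_conj g h v).trans e, fun h0 => hv ?_⟩
    rw [Nm_sq_apply] at h0
    have := congrArg (fun w => ((g.1⁻¹ : GL I (ZMod 3)) : Matrix I I (ZMod 3)) *ᵥ w) h0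
    simpa [Matrix.mulVec_mulVec, ← mul_assoc] using this

theorem pred_iff_of_conj (k : Fin 5) {g a b : Om} (e : g * a * g⁻¹ = b) : Pred k a ↔ Pred k b := by
  refine ⟨fun h => e ▸ pred_conj k g a h, fun h => ?_⟩
  have := pred_conj k g⁻¹ b h
  rwa [← e, show g⁻¹ * (g * a * g⁻¹) * g⁻¹⁻¹ = a by group] at this

/-- The polar matrix. -/
def Pm : Matrix I I (ZMod 3) := fun i j => if j = i.swap then 1 else 0

theorem polar_dot (u v : I → ZMod 3) : polar Qf u v = u ⬝ᵥ (Pm *ᵥ v) := by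
  rw [Qf, Tab.polar_eq (qform_isForm _)]
  have h : ∀ a b : Fin 8, (eval (1 : ZMod 3) ChevClassical.D4.tab.P : Matrix I I (ZMod 3)) (pos a.val) (pos b.val) =
      Pm (pos a.val) (pos b.val) := by decide +kernel
  congr 2
  refine Matrix.ext fun i j => ?_
  have h' := h ⟨num i, num_lt i⟩ ⟨num j, num_lt j⟩
  rwa [pos_num, pos_num] at h'

/-- The word of a class. -/
def cWord (c : ℕ) : List Letter :=
  (classWords.getD c []).map fun j => ([18, 14, 13, 12].getD (j / 2) 0, j % 2 == 1)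

/-- The stored nilpotent part of a class. -/
def Nd (c : ℕ) : Matrix I I (ZMod 3) := dec (evalW (cWord c)) - 1

/-- A matrix given by rows. -/
def matRows {m : Type} (n : m → ℕ) {l : Type} (p : l → ℕ) (A : List (List ℕ)) : Matrix m l (ZMod 3) :=
  fun i j => ((A.getD (n i) []).getD (p j) 0 : ℕ)

/-- A vector given by a list. -/
def vecList (v : List ℕ) : I → ZMod 3 := fun i => (v.getD (num i) 0 : ℕ)

/-- A vector on three positions. -/
def vecSupp (S : List ℕ) (a : Fin 3 → ZMod 3) : I → ZMod 3 := fun i =>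
  if num i = S.getD 0 0 then a 0 else if num i = S.getD 1 0 then a 1 else if num i = S.getD 2 0 then a 2 else 0

/-- The conditions of the last three properties for two matrices. -/
def condM (M N : Matrix I I (ZMod 3)) (k : ℕ) (v : I → ZMod 3) : Bool :=
  decide (if k = 0 then v ⬝ᵥ (M *ᵥ v) = 1 else if k = 1 then v ⬝ᵥ (M *ᵥ v) = 2
    else v ⬝ᵥ (M *ᵥ v) = 0 ∧ N *ᵥ v ≠ 0)

theorem condM_iff (M N : Matrix I I (ZMod 3)) (k : ℕ) (v : I → ZMod 3) : condM M N k v = true ↔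
    (if k = 0 then v ⬝ᵥ (M *ᵥ v) = 1 else if k = 1 then v ⬝ᵥ (M *ᵥ v) = 2
      else v ⬝ᵥ (M *ᵥ v) = 0 ∧ N *ᵥ v ≠ 0) :=
  decide_eq_true_iff

theorem condM_congr (M N : Matrix I I (ZMod 3)) (v w : I → ZMod 3) (h1 : N *ᵥ w = N *ᵥ v)
    (h2 : w ⬝ᵥ (M *ᵥ w) = v ⬝ᵥ (M *ᵥ v)) (k : ℕ) : condM M N k w = condM M N k v := by
  rw [Bool.eq_iff_iff, condM_iff, condM_iff, h1, h2]

theorem condM_zero (M N : Matrix I I (ZMod 3)) (v : I → ZMod 3) : condM M N 0 v = true ↔ v ⬝ᵥ (M *ᵥ v) = 1 := by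
  rw [condM_iff, if_pos rfl]

theorem condM_one (M N : Matrix I I (ZMod 3)) (v : I → ZMod 3) : condM M N 1 v = true ↔ v ⬝ᵥ (M *ᵥ v) = 2 := by
  rw [condM_iff, if_neg Nat.one_ne_zero, if_pos rfl]

theorem condM_two (M N : Matrix I I (ZMod 3)) (v : I → ZMod 3) :
    condM M N 2 v = true ↔ v ⬝ᵥ (M *ᵥ v) = 0 ∧ N *ᵥ v ≠ 0 := by
  rw [condM_iff, if_neg (Nat.succ_ne_zero 1), if_neg (Nat.succ_ne_self 1)]

/-- The conditions of the last three properties. -/
def cond (c : ℕ) (k : ℕ) (v : I → ZMod 3) : Bool := condM (Pm * (Nd c * Nd c)) (Nd c * Nd c) k v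

/-- The table of the properties. -/
def sig (c : ℕ) (k : Fin 5) : Bool :=
  match k with
  | 0 => (rankData.getD c (false, false, [], [])).1
  | 1 => (rankData.getD c (false, false, [], [])).2.1
  | 2 => ((formData.getD c ([], [])).2.getD 0 none).isSome
  | 3 => ((formData.getD c ([], [])).2.getD 1 none).isSome
  | 4 => ((formData.getD c ([], [])).2.getD 2 none).isSome

/-- The support check. -/
def suppOK (c : ℕ) : Bool :=
  let S := (formData.getD c ([], [])).1
  decide (∀ i j : I, ¬ (num j ∈ S) ∨ ¬ (num i ∈ S) → (Pm * (Nd c * Nd c)) i j = 0) &&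
    decide (∀ i j : I, ¬ (num j ∈ S) → (Nd c * Nd c) i j = 0) && (S.length == 3)

/-- The checks of the table. -/
def sigOK (c : ℕ) : Bool :=
  let r := rankData.getD c (false, false, [], [])
  wordOK (cWord c) && (decide (Nd c * Nd c = 0) == r.1) &&
  (if r.2.1 then decide (matRows Fin.val num r.2.2.1 * Nd c * matRows num Fin.val r.2.2.2 = (1 : Matrix (Fin 3) (Fin 3) (ZMod 3)))
    else decide (Nd c = (matRows num Fin.val r.2.2.1 : Matrix I (Fin 2) (ZMod 3)) * matRows Fin.val num r.2.2.2)) &&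
  suppOK c && (List.range 3).all fun k =>
    match (formData.getD c ([], [])).2.getD k none with
    | some v => cond c k (vecList v)
    | none => decide (∀ a : Fin 3 → ZMod 3, cond c k (vecSupp (formData.getD c ([], [])).1 a) = false)

theorem sig_ok : ((List.range 13).all sigOK) = true := by decide +kernel

theorem no_one (U : Matrix I (Fin 2) (ZMod 3)) (V : Matrix (Fin 2) I (ZMod 3)) :
    ¬ ∃ (A : Matrix (Fin 3) I (ZMod 3)) (B : Matrix I (Fin 3) (ZMod 3)), A * (U * V) * B = 1 := by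
  rintro ⟨A, B, e⟩
  haveI : Fact (Nat.Prime 3) := ⟨Nat.prime_three⟩
  have e' : (A * U) * (V * B) = 1 := by rw [← e]; simp only [Matrix.mul_assoc]
  have h := (Matrix.rank_mul_le_left (A * U) (V * B)).trans (Matrix.rank_le_card_width _)
  rw [e', Matrix.rank_one] at h
  simp at h

theorem dot_restrict (M N : Matrix I I (ZMod 3)) (S : Set I) (hM : ∀ i j, j ∉ S ∨ i ∉ S → (M * N) i j = 0)
    (hN : ∀ i j, j ∉ S → N i j = 0) (v w : I → ZMod 3) (hvw : ∀ i ∈ S, w i = v i) :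
    N *ᵥ w = N *ᵥ v ∧ w ⬝ᵥ ((M * N) *ᵥ w) = v ⬝ᵥ ((M * N) *ᵥ v) := by
  have h1 : N *ᵥ w = N *ᵥ v := by
    funext i
    simp only [Matrix.mulVec, dotProduct]
    refine Finset.sum_congr rfl fun j _ => ?_
    by_cases hj : j ∈ S
    · rw [hvw j hj]
    · rw [hN i j hj, zero_mul, zero_mul]
  refine ⟨h1, ?_⟩
  rw [← Matrix.mulVec_mulVec w M N, h1, Matrix.mulVec_mulVec]
  simp only [dotProduct]
  refine Finset.sum_congr rfl fun i _ => ?_
  by_cases hi : i ∈ S
  · rw [hvw i hi]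
  · have hz : ((M * N) *ᵥ v) i = 0 := by
      simp only [Matrix.mulVec, dotProduct]
      exact Finset.sum_eq_zero fun j _ => by rw [hM i j (Or.inr hi), zero_mul]
    rw [hz, mul_zero, mul_zero]

theorem Nd_eq (c : ℕ) : Nd c = dec (evalW (cWord c)) - 1 := rfl

attribute [local irreducible] Nd Pm formData rankData cWord condM

theorem restrict_cond {c : ℕ} (h : suppOK c = true) (k : ℕ) (v : I → ZMod 3) (hv : cond c k v = true) :
    ∃ a, cond c k (vecSupp (formData.getD c ([], [])).1 a) = true := by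
  simp only [suppOK, Bool.and_eq_true, decide_eq_true_eq, beq_iff_eq] at h
  set S := (formData.getD c ([], [])).1 with hS
  obtain ⟨s0, s1, s2, hs⟩ : ∃ s0 s1 s2, S = [s0, s1, s2] := by
    rcases S with _ | ⟨a, _ | ⟨b, _ | ⟨d, _ | ⟨e, l⟩⟩⟩⟩ <;> simp at h
    exact ⟨a, b, d, rfl⟩
  refine ⟨![v (pos s0), v (pos s1), v (pos s2)], ?_⟩
  set w := vecSupp S ![v (pos s0), v (pos s1), v (pos s2)] with hw
  have hmem : ∀ i : I, num i ∈ S → w i = v i := by
    intro i hi
    rw [hw, vecSupp, hs]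
    rw [hs] at hi
    simp only [List.getD_cons_zero, List.getD_cons_succ, Matrix.cons_val]
    split_ifs with e0 e1 e2
    · exact congrArg v (by rw [← e0, pos_num])
    · exact congrArg v (by rw [← e1, pos_num])
    · exact congrArg v (by rw [← e2, pos_num])
    · simp at hi; omega
  obtain ⟨hN, hd⟩ := dot_restrict Pm (Nd c * Nd c) {i | num i ∈ S} h.1.1 h.1.2 v w hmem
  unfold cond at hv ⊢
  rw [condM_congr _ _ v w hN hd k]
  exact hv

/-- The table is correct. -/
theorem pred_sig (c : ℕ) (hc : c < 13) (k : Fin 5) : Pred k (gw (cWord c)) ↔ sig c k = true := by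
  have h := List.all_eq_true.mp sig_ok c (List.mem_range.mpr hc)
  simp only [sigOK, Bool.and_eq_true, beq_iff_eq] at h
  obtain ⟨⟨⟨⟨hw, hsq⟩, hrk⟩, hsupp⟩, hform⟩ := h
  have hN : Nm (gw (cWord c)) = Nd c := by rw [Nm, ← (evalW_spec _ hw).1, Nd_eq]
  have hbeta : ∀ v, beta (gw (cWord c)) v = v ⬝ᵥ ((Pm * (Nd c * Nd c)) *ᵥ v) := fun v => by
    rw [beta, hN, polar_dot, Matrix.mulVec_mulVec]
  have hexists : ∀ j, j < 3 → ((∃ v, cond c j v = true) ↔ ((formData.getD c ([], [])).2.getD j none).isSome = true) := by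
    intro j hj
    have hj' := List.all_eq_true.mp hform j (List.mem_range.mpr hj)
    cases hl : (formData.getD c ([], [])).2.getD j none with
    | none =>
      rw [hl] at hj'
      refine iff_of_false (fun ⟨v, hv⟩ => ?_) (by simp)
      obtain ⟨a, ha⟩ := restrict_cond hsupp j v hv
      rw [of_decide_eq_true hj' a] at ha
      exact Bool.false_ne_true ha
    | some v =>
      rw [hl] at hj'
      exact iff_of_true ⟨_, hj'⟩ rfl
  fin_cases k
  · show Nm _ * Nm _ = 0 ↔ (rankData.getD c (false, false, [], [])).1 = true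
    rw [hN, ← hsq, decide_eq_true_eq]
  · show (∃ (A : Matrix (Fin 3) I (ZMod 3)) (B : Matrix I (Fin 3) (ZMod 3)), A * Nm _ * B = 1) ↔
      (rankData.getD c (false, false, [], [])).2.1 = true
    rw [hN]
    split_ifs at hrk with h1
    · exact iff_of_true ⟨_, _, of_decide_eq_true hrk⟩ h1
    · refine iff_of_false ?_ h1
      rw [of_decide_eq_true hrk]
      exact no_one _ _
  · show (∃ v, beta _ v = 1) ↔ ((formData.getD c ([], [])).2.getD 0 none).isSome = true
    simp only [hbeta]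
    rw [← hexists 0 (by norm_num)]
    exact exists_congr fun v => (condM_zero (Pm * (Nd c * Nd c)) (Nd c * Nd c) v).symm
  · show (∃ v, beta _ v = 2) ↔ ((formData.getD c ([], [])).2.getD 1 none).isSome = true
    simp only [hbeta]
    rw [← hexists 1 (by norm_num)]
    exact exists_congr fun v => (condM_one (Pm * (Nd c * Nd c)) (Nd c * Nd c) v).symm
  · show (∃ v, beta _ v = 0 ∧ _) ↔ ((formData.getD c ([], [])).2.getD 2 none).isSome = true
    simp only [hbeta, hN]
    rw [← hexists 2 (by norm_num)]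
    exact exists_congr fun v => (condM_two (Pm * (Nd c * Nd c)) (Nd c * Nd c) v).symm

end CfsgLib.OEightThree
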