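/-
Every element of order three of `D₄(3)` is conjugate to one of thirteen elements.
-/
import Cfsg.Agent.Lib.OEightThree.DataSteps
import Cfsg.Agent.Lib.Chev.ConjMemU

set_option autoImplicit false
set_option maxRecDepth 100000
set_option maxHeartbeats 800000

namespace CfsgLib.OEightThree

open Cfsg Cfsg.Lie Matrix CfsgLib.ChevClassical

/-- The root at a step. -/
def lr (k : ℕ) : ℕ := order.getD k 0

/-- The root element of a step. -/
noncomputable def xk (k : ℕ) : Om := gl (lr k, false)

/-- The group generated from a step on. -/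
noncomputable def Uk (k : ℕ) : Subgroup Om := Subgroup.closure (xk '' {i | k ≤ i ∧ i < 12})

/-- A word whose letters come from a step or later. -/
def inU (k : ℕ) (w : List Letter) : Bool := w.all fun l => (order.drop k).contains l.1

/-- A normalising word. -/
def genW (g : ℕ) : List Letter := dw (gens.getD g [])

/-- The word of a positive representative. -/
def repW (k i : ℕ) : List Letter := dw ((levelReps.getD k []).getD i [])

/-- The word of a class. -/
def sWord (c : ℕ) : List Letter :=
  (classWords.getD c []).map fun j => ([18, 14, 13, 12].getD (j / 2) 0, j % 2 == 1)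

/-- The identity checks on the base data. -/
def baseOK : Bool :=
  (order.length == 12) && (order.all fun r => decide (12 ≤ r) && decide (r < 24)) &&
  ((List.range 24).all fun r => decide (r < 12) || order.contains r) &&
  ((List.range 24).all fun r => wEq [(r, true)] [(r, false), (r, false)]) &&
  ((List.range 12).all fun j => genW (2 * j) == [(lr j, false)]) &&
  ((List.range 28).all fun g => (List.range 12).all fun j =>
    let v := dw ((norms.getD g []).getD j [])
    wEq (genW g ++ [(lr j, false)]) (v ++ genW g) && inU j v)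

theorem base_ok : baseOK = true := by decide +kernel

theorem lr_mem {r : ℕ} {k : ℕ} (h : (order.drop k).contains r = true) :
    ∃ i, k ≤ i ∧ i < 12 ∧ lr i = r := by
  rw [List.contains_iff_mem] at h
  obtain ⟨i, hi, rfl⟩ := List.getElem_of_mem h
  rw [List.length_drop] at hi
  have hlen : order.length = 12 := rfl
  refine ⟨k + i, by omega, by omega, ?_⟩
  rw [lr, List.getD_eq_getElem?_getD, List.getElem?_eq_getElem (by omega), Option.getD_some, List.getElem_drop]

theorem xk_mem {k i : ℕ} (h1 : k ≤ i) (h2 : i < 12) : xk i ∈ Uk k :=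
  Subgroup.subset_closure ⟨i, ⟨h1, h2⟩, rfl⟩

theorem gl_true {r : ℕ} (hr : r < 24) : gl (r, true) = gl (r, false) * gl (r, false) := by
  have h := base_ok
  simp only [baseOK, Bool.and_eq_true] at h
  have := gw_of_wEq (List.all_eq_true.mp h.1.1.2 r (List.mem_range.mpr hr))
  simpa [gw] using this

theorem lr_lt (i : ℕ) : lr i < 24 := by
  rcases Nat.lt_or_ge i 12 with hi | hi
  · revert hi; revert i; decide +kernel
  · rw [lr, List.getD_eq_default _ _ (by exact hi)]; omega

theorem gw_mem_Uk {k : ℕ} {w : List Letter} (h : inU k w = true) : gw w ∈ Uk k := by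
  refine list_prod_mem fun g hg => ?_
  obtain ⟨⟨r, s⟩, hl, rfl⟩ := List.mem_map.mp hg
  obtain ⟨i, h1, h2, rfl⟩ := lr_mem (List.all_eq_true.mp h _ hl)
  cases s
  · exact xk_mem h1 h2
  · rw [gl_true (lr_lt i)]; exact mul_mem (xk_mem h1 h2) (xk_mem h1 h2)

theorem Uk_anti {j k : ℕ} (h : j ≤ k) : Uk k ≤ Uk j :=
  Subgroup.closure_mono (Set.image_mono fun _ hi => ⟨h.trans hi.1, hi.2⟩)

theorem gen_normalize {g : ℕ} (hg : g < 28) (k : ℕ) :
    gw (genW g) ∈ Subgroup.normalizer (Uk k : Set Om) := by
  have hmap : (Uk k).map (MulAut.conj (gw (genW g))).toMonoidHom ≤ Uk k := by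
    rw [Uk, MonoidHom.map_closure, Subgroup.closure_le]
    rintro _ ⟨_, ⟨j, ⟨hj, hj'⟩, rfl⟩, rfl⟩
    have h := base_ok
    simp only [baseOK, Bool.and_eq_true] at h
    have h2 := List.all_eq_true.mp (List.all_eq_true.mp h.2 g (List.mem_range.mpr hg)) j (List.mem_range.mpr hj')
    simp only [Bool.and_eq_true] at h2
    have h3 := gw_of_wEq h2.1
    rw [gw_append, gw_append] at h3
    show MulAut.conj (gw (genW g)) (xk j) ∈ Uk k
    rw [MulAut.conj_apply, show gw (genW g) * xk j = _ * gw (genW g) from by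
      rw [show xk j = gw [(lr j, false)] by simp [gw, xk]]; exact h3, mul_inv_cancel_right]
    exact Uk_anti hj (gw_mem_Uk h2.2)
  have heq : (Uk k).map (MulAut.conj (gw (genW g))).toMonoidHom = Uk k :=
    Subgroup.eq_of_le_of_card_ge hmap (by rw [Subgroup.card_map_of_injective (MulAut.conj _).injective])
  rw [Subgroup.mem_normalizer_iff]
  intro x
  constructor
  · exact fun hx => hmap ⟨x, hx, rfl⟩
  · intro hx
    rw [← heq] at hx
    obtain ⟨y, hy, e⟩ := hx
    rwa [← (MulAut.conj (gw (genW g))).injective e]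

theorem gen_prefix {j : ℕ} (hj : j < 12) : gw (genW (2 * j)) = xk j := by
  have h := base_ok
  simp only [baseOK, Bool.and_eq_true] at h
  have := List.all_eq_true.mp h.1.2 j (List.mem_range.mpr hj)
  rw [beq_iff_eq] at this
  rw [this]; simp [gw, xk]

theorem Uk_normalize (k : ℕ) : Uk 0 ≤ Subgroup.normalizer (Uk k : Set Om) := by
  refine (Subgroup.closure_le _).mpr ?_
  rintro _ ⟨j, ⟨-, hj⟩, rfl⟩
  rw [← gen_prefix hj]
  exact gen_normalize (by omega) k

theorem conj_mem {k : ℕ} {g x : Om} (hg : g ∈ Subgroup.normalizer (Uk k : Set Om)) (hx : x ∈ Uk k) :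
    g * x * g⁻¹ ∈ Uk k := (Subgroup.mem_normalizer_iff.mp hg x).mp hx

theorem root_eq (n : ℕ) : root (root n).val = root n := by
  have : (root n).val < 24 := (root n).isLt
  exact dif_pos this

theorem cube_check : ((List.range 24).all fun r =>
    [false, true].all fun b => wEq [(r, b), (r, b), (r, b)] []) = true := by decide +kernel

theorem gl_cube (l : Letter) : gl l ^ 3 = 1 := by
  have e : gl l = gl ((root l.1).val, l.2) := by simp only [gl, root_eq]
  have h := gw_of_wEq (List.all_eq_true.mp (List.all_eq_true.mp cube_check (root l.1).val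
    (List.mem_range.mpr (root l.1).isLt)) l.2 (by cases l.2 <;> decide))
  rw [e]
  simpa [gw, pow_succ, mul_assoc] using h

theorem xk_mod (k a : ℕ) : xk k ^ a = xk k ^ (a % 3) := pow_eq_pow_mod a (gl_cube _)

/-- The powers of the root element of a step, as words. -/
def powW (k a : ℕ) : List Letter :=
  if a % 3 = 0 then [] else if a % 3 = 1 then [(lr k, false)] else [(lr k, true)]

theorem xk_pow (k a : ℕ) : xk k ^ a = gw (powW k a) := by
  rw [xk_mod, powW]
  have h3 : a % 3 < 3 := Nat.mod_lt _ (by norm_num)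
  interval_cases h : a % 3
  · simp [gw]
  · simp [gw, xk]
  · simp [gw, xk, gl_true (lr_lt k), pow_two]

theorem Uk_split {k : ℕ} (hk : k < 12) {g : Om} (hg : g ∈ Uk k) :
    ∃ a, a < 3 ∧ ∃ s ∈ Uk (k + 1), g = xk k ^ a * s := by
  suffices h : ∃ a : ℕ, ∃ s ∈ Uk (k + 1), g = xk k ^ a * s by
    obtain ⟨a, s, hs, e⟩ := h
    exact ⟨a % 3, Nat.mod_lt _ (by norm_num), s, hs, by rw [← xk_mod, e]⟩
  have hfin : (Uk k).toSubmonoid = Submonoid.closure (xk '' {i | k ≤ i ∧ i < 12}) :=
    Subgroup.closure_toSubmonoid_of_finite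
  have hg' : g ∈ Submonoid.closure (xk '' {i | k ≤ i ∧ i < 12}) := hfin ▸ hg
  induction hg' using Submonoid.closure_induction with
  | mem x hx =>
    obtain ⟨i, ⟨h1, h2⟩, rfl⟩ := hx
    rcases h1.eq_or_lt with e | e
    · subst e; exact ⟨1, 1, one_mem _, by rw [pow_one, mul_one]⟩
    · exact ⟨0, xk i, xk_mem e h2, by rw [pow_zero, one_mul]⟩
  | one => exact ⟨0, 1, one_mem _, by simp⟩
  | mul x y hx hy hx' hy' =>
    obtain ⟨a, s, hs, rfl⟩ := hx' (show x ∈ (Uk k).toSubmonoid by rw [hfin]; exact hx)
    obtain ⟨b, t, ht, rfl⟩ := hy' (show y ∈ (Uk k).toSubmonoid by rw [hfin]; exact hy)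
    have hn : (xk k ^ b)⁻¹ ∈ Subgroup.normalizer (Uk (k + 1) : Set Om) :=
      inv_mem (pow_mem (Uk_normalize _ (xk_mem (Nat.zero_le k) hk)) b)
    refine ⟨a + b, (xk k ^ b)⁻¹ * s * ((xk k ^ b)⁻¹)⁻¹ * t, mul_mem (conj_mem hn hs) ht, ?_⟩
    rw [pow_add]; group

/-- The pattern of a step. -/
def Pat (k : ℕ) (M : Matrix I I (ZMod 3)) : Prop :=
  ∀ i j : I, ((masks.getD k []).getD (num i) 0).testBit (num j) = false → M i j = if i = j then 1 else 0

/-- The conditions on the supports. -/
def maskOK : Bool :=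
  (List.range 13).all fun k =>
    ((List.range 8).all fun a => (!((masks.getD k []).getD a 0).testBit a) && (List.range 8).all fun b =>
      !((masks.getD k []).getD a 0).testBit b || (List.range 8).all fun c =>
        !((masks.getD k []).getD b 0).testBit c || ((masks.getD k []).getD a 0).testBit c) &&
    ((List.range 12).all fun j => decide (j < k) || (List.range 8).all fun a => (List.range 8).all fun b =>
      ((masks.getD k []).getD a 0).testBit b ||
        dig ((evalW [(lr j, false)]).getD a 0) b == dig (I0.getD a 0) b)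

theorem mask_ok : maskOK = true := by decide +kernel

theorem tri_I0 (i j : I) : tri (dig (I0.getD (num i) 0) (num j)) = if i = j then 1 else 0 := by
  have h := congrFun (congrFun dec_I0 i) j
  rw [Matrix.one_apply] at h
  exact h

theorem pat_mul {k : ℕ} (hk : k < 13) {M N : Matrix I I (ZMod 3)} (hM : Pat k M) (hN : Pat k N) :
    Pat k (M * N) := by
  have h := List.all_eq_true.mp mask_ok k (List.mem_range.mpr hk)
  simp only [Bool.and_eq_true] at h
  have htrans : ∀ a b c : I, ((masks.getD k []).getD (num a) 0).testBit (num b) = true →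
      ((masks.getD k []).getD (num b) 0).testBit (num c) = true →
      ((masks.getD k []).getD (num a) 0).testBit (num c) = true := fun a b c h1 h2 => by
    have h3 := List.all_eq_true.mp h.1 (num a) (List.mem_range.mpr (num_lt a))
    simp only [Bool.and_eq_true] at h3
    have h4 := List.all_eq_true.mp h3.2 (num b) (List.mem_range.mpr (num_lt b))
    rw [h1, Bool.not_true, Bool.false_or] at h4
    have h5 := List.all_eq_true.mp h4 (num c) (List.mem_range.mpr (num_lt c))
    rwa [h2, Bool.not_true, Bool.false_or] at h5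
  intro i j hij
  rw [Matrix.mul_apply, Finset.sum_eq_single i]
  · rw [hN i j hij]
    have hii : ((masks.getD k []).getD (num i) 0).testBit (num i) = false := by
      have h3 := List.all_eq_true.mp h.1 (num i) (List.mem_range.mpr (num_lt i))
      simp only [Bool.and_eq_true, Bool.not_eq_true'] at h3
      exact h3.1
    rw [hM i i hii, if_pos rfl, one_mul]
  · intro l _ hl
    by_cases h1 : ((masks.getD k []).getD (num i) 0).testBit (num l) = true
    · by_cases h2 : ((masks.getD k []).getD (num l) 0).testBit (num j) = true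
      · rw [htrans i l j h1 h2] at hij; exact absurd hij (by decide)
      · rw [hN l j (by simpa using h2)]
        rw [if_neg (fun e => by subst e; rw [h1] at hij; exact absurd hij (by decide)), mul_zero]
    · rw [hM i l (by simpa using h1), if_neg (Ne.symm hl), zero_mul]
  · exact fun h => absurd (Finset.mem_univ i) h

theorem pat_one (k : ℕ) : Pat k (1 : Matrix I I (ZMod 3)) := fun i j _ => Matrix.one_apply

theorem pat_of_mem {k : ℕ} (hk : k < 13) {g : Om} (hg : g ∈ Uk k) : Pat k (g.1 : Matrix I I (ZMod 3)) := by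
  have hfin : (Uk k).toSubmonoid = Submonoid.closure (xk '' {i | k ≤ i ∧ i < 12}) :=
    Subgroup.closure_toSubmonoid_of_finite
  have hg' : g ∈ Submonoid.closure (xk '' {i | k ≤ i ∧ i < 12}) := hfin ▸ hg
  clear hg
  induction hg' using Submonoid.closure_induction with
  | one => exact pat_one k
  | mul x y _ _ hx hy => exact pat_mul hk hx hy
  | mem x hx =>
    obtain ⟨j, ⟨h1, h2⟩, rfl⟩ := hx
    intro a b hab
    have h := List.all_eq_true.mp mask_ok k (List.mem_range.mpr hk)
    simp only [Bool.and_eq_true] at h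
    have h3 := List.all_eq_true.mp h.2 j (List.mem_range.mpr h2)
    rw [decide_eq_false (not_lt.mpr h1), Bool.false_or] at h3
    have h4 := List.all_eq_true.mp (List.all_eq_true.mp h3 (num a) (List.mem_range.mpr (num_lt a))) (num b)
      (List.mem_range.mpr (num_lt b))
    rw [hab, Bool.false_or, beq_iff_eq] at h4
    have hw := (evalW_spec [(lr j, false)] (by simp [wordOK, lr_lt])).1
    rw [show gw [(lr j, false)] = xk j by simp [gw, xk]] at hw
    rw [← hw, ← tri_I0 a b]
    exact congrArg tri h4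

/-- A stored matrix outside a pattern. -/
def patBad (k : ℕ) (M : List ℕ) : Bool :=
  (List.range 8).any fun a => (List.range 8).any fun b =>
    !((masks.getD k []).getD a 0).testBit b && decide (tri (dig (M.getD a 0) b) ≠ tri (dig (I0.getD a 0) b))

theorem not_pat {k : ℕ} {M : List ℕ} (h : patBad k M = true) : ¬ Pat k (dec M) := by
  intro hp
  simp only [patBad, List.any_eq_true, List.mem_range, Bool.and_eq_true, decide_eq_true_eq, Bool.not_eq_true'] at h
  obtain ⟨a, ha, b, hb, h1, h2⟩ := h
  have := hp (pos a) (pos b) (by rwa [num_pos a ha, num_pos b hb])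
  rw [← tri_I0, dec, num_pos a ha, num_pos b hb] at this
  exact h2 this

/-- One check of a step. -/
def stepOK (k i : ℕ) : Bool :=
  let c := repW k (i / 3) ++ powW k i
  inU 0 c && match (levelSteps.getD k []).getD i none with
  | none => wordOK c && patBad (k + 1) (evalW (c ++ c ++ c))
  | some (t, us, w) => decide (t < (levelReps.getD (k + 1) []).length) && (us.all fun g => decide (g < 28)) &&
      inU 0 (repW (k + 1) t) && inU (k + 1) (dw w) &&
      wEq ((us.flatMap genW) ++ c) (repW (k + 1) t ++ dw w ++ us.flatMap genW)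

/-- All checks of a step. -/
def levelOK (k : ℕ) : Bool := (List.range (3 * (levelReps.getD k []).length)).all (stepOK k)

theorem levels_ok : ((List.range 12).all levelOK) = true := by decide +kernel

theorem gw_gens (us : List ℕ) (h : (us.all fun g => decide (g < 28)) = true) (k : ℕ) :
    gw (us.flatMap genW) ∈ Subgroup.normalizer (Uk k : Set Om) := by
  induction us with
  | nil => simp [gw]
  | cons g us ih =>
    simp only [List.all_cons, Bool.and_eq_true, decide_eq_true_eq] at h
    rw [List.flatMap_cons, gw_append]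
    exact mul_mem (gen_normalize h.1 k) (ih h.2)

/-- The covering at a step. -/
def Cov (k : ℕ) : Prop :=
  ∀ h ∈ Uk 0, h ^ 3 = 1 → ∃ g : Om, ∃ i, i < (levelReps.getD k []).length ∧ ∃ s ∈ Uk k, g * h * g⁻¹ = gw (repW k i) * s

theorem cube_shift {k : ℕ} {c s : Om} (hc : c ∈ Uk 0) (hs : s ∈ Uk k) :
    ∃ t ∈ Uk k, (c * s) ^ 3 = c ^ 3 * t := by
  have hn := Uk_normalize k hc
  refine ⟨(c ^ 2)⁻¹ * s * ((c ^ 2)⁻¹)⁻¹ * (c⁻¹ * s * c⁻¹⁻¹) * s,
    mul_mem (mul_mem (conj_mem (inv_mem (pow_mem hn 2)) hs) (conj_mem (inv_mem hn) hs)) hs, ?_⟩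
  simp only [pow_succ, pow_zero, one_mul]
  group

theorem cov_all : ∀ k, k ≤ 12 → Cov k
  | 0, _ => fun h hh _ => ⟨1, 0, by decide, h, hh, by simp [repW, levelReps, dw, gw]⟩
  | k + 1, hk => fun h hh h3 => by
    obtain ⟨g, i, hi, s, hs, e⟩ := cov_all k (by omega) h hh h3
    obtain ⟨a, ha, s', hs', rfl⟩ := Uk_split (by omega : k < 12) hs
    have hc := List.all_eq_true.mp (List.all_eq_true.mp levels_ok k (List.mem_range.mpr (by omega))) (3 * i + a)
      (List.mem_range.mpr (by omega))
    have hdiv : (3 * i + a) / 3 = i := by omega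
    have hpw : powW k (3 * i + a) = powW k a := by simp [powW, Nat.mul_add_mod]
    simp only [stepOK, hdiv, hpw, Bool.and_eq_true] at hc
    obtain ⟨hcU, hc⟩ := hc
    set c := repW k i ++ powW k a with hcdef
    have hcs : g * h * g⁻¹ = gw c * s' := by rw [e, hcdef, gw_append, xk_pow]; group
    have hcube : (gw c * s') ^ 3 = 1 := by rw [← hcs, conj_pow, h3]; group
    cases hlook : (levelSteps.getD k []).getD (3 * i + a) none with
    | none =>
      exfalso
      rw [hlook] at hc
      simp only [Bool.and_eq_true] at hc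
      obtain ⟨t, ht, et'⟩ := cube_shift (gw_mem_Uk hcU) hs'
      rw [hcube] at et'
      have hw : wordOK (c ++ c ++ c) = true := by simp [wordOK] at hc ⊢; exact hc.1
      have hmem : gw (c ++ c ++ c) ∈ Uk (k + 1) := by
        rw [gw_append, gw_append, show gw c * gw c * gw c = t⁻¹ from eq_inv_of_mul_eq_one_left
          (by rw [et']; simp [pow_succ])]
        exact inv_mem ht
      exact not_pat hc.2 ((evalW_spec _ hw).1 ▸ pat_of_mem (by omega) hmem)
    | some v =>
      obtain ⟨t, us, w⟩ := v
      rw [hlook] at hc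
      simp only [Bool.and_eq_true, decide_eq_true_eq] at hc
      obtain ⟨⟨⟨⟨ht, hus⟩, -⟩, hw⟩, heq⟩ := hc
      have hu := gw_gens us hus (k + 1)
      have he := gw_of_wEq heq
      rw [gw_append (us.flatMap genW) c, gw_append (repW (k + 1) t ++ dw w), gw_append (repW (k + 1) t)] at he
      refine ⟨gw (us.flatMap genW) * g, t, ht,
        gw (dw w) * (gw (us.flatMap genW) * s' * (gw (us.flatMap genW))⁻¹),
        mul_mem (gw_mem_Uk hw) (conj_mem hu hs'), ?_⟩
      calc gw (us.flatMap genW) * g * h * (gw (us.flatMap genW) * g)⁻¹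
          = gw (us.flatMap genW) * (g * h * g⁻¹) * (gw (us.flatMap genW))⁻¹ := by group
        _ = gw (us.flatMap genW) * gw c * s' * (gw (us.flatMap genW))⁻¹ := by rw [hcs]; group
        _ = _ := by rw [he]; group

theorem Uk_twelve {g : Om} (hg : g ∈ Uk 12) : g = 1 := by
  rw [Uk, show ({i | 12 ≤ i ∧ i < 12} : Set ℕ) = ∅ from Set.eq_empty_of_forall_notMem fun i hi => by
    obtain ⟨h1, h2⟩ := hi; omega, Set.image_empty, Subgroup.closure_empty] at hg
  exact hg

/-- The last check. -/
def finalOK (i : ℕ) : Bool :=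
  match finals.getD i none with
  | none => wEq (repW 12 i) []
  | some (c, w) => decide (c < 13) && wEq (repW 12 i ++ dw w) (dw w ++ sWord c)

theorem finals_ok : ((List.range (levelReps.getD 12 []).length).all finalOK) = true := by decide +kernel

/-- The classes. -/
noncomputable def cl (c : Fin 13) : T := pj (gw (sWord c.val))

theorem ym_zero (r : Root) : ym r 0 = 1 := by
  refine Subtype.ext (Units.ext ?_)
  show eval (0 : ZMod 3) (ChevClassical.D4.tab.Y r) = 1
  rw [Tab.Y, eval_append, Tab.eval_one ChevClassical.D4.ok, (ops_table r).1]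
  simp [eval, toEnt]

theorem posUnipotent_lift {x : T} (hx : (x : GL Cfsg.Lie.chevD4.Idx (ZMod 3)) ∈ Cfsg.Lie.chevD4.posUnipotent (ZMod 3)) :
    ∃ h ∈ Uk 0, pj h = x := by
  obtain ⟨x, hxg⟩ := x
  change x ∈ _ at hx
  rw [CfsgLib.Chev.chevD4.posUnipotent_eq_US, Chev.Chev.US] at hx
  suffices h : ∃ h ∈ Uk 0, (pj h).1 = x by
    obtain ⟨h, hh, e⟩ := h
    exact ⟨h, hh, Subtype.ext e⟩
  clear hxg
  induction hx using Subgroup.closure_induction with
  | one => exact ⟨1, one_mem _, by simp⟩
  | mul a b _ _ ha hb =>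
    obtain ⟨p, hp, rfl⟩ := ha
    obtain ⟨q, hq, rfl⟩ := hb
    exact ⟨p * q, mul_mem hp hq, by simp⟩
  | inv a _ ha =>
    obtain ⟨p, hp, rfl⟩ := ha
    exact ⟨p⁻¹, inv_mem hp, by simp⟩
  | mem a ha =>
    obtain ⟨r, t, hr, rfl⟩ := ha
    have h := base_ok
    simp only [baseOK, Bool.and_eq_true] at h
    have hr' : 24 ≤ 2 * r.val := hr
    have hc := List.all_eq_true.mp h.1.1.1.2 r.val (List.mem_range.mpr r.isLt)
    rw [decide_eq_false (by omega : ¬ r.val < 12), Bool.false_or] at hc
    obtain ⟨i, -, hi, e⟩ := lr_mem (k := 0) hc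
    refine ⟨ym r t, ?_, by rw [pj_ym]; rfl⟩
    have hroot : root (lr i) = r := by
      rw [e]; exact dif_pos (show r.val < 24 from r.isLt)
    have hx : ∀ b : Bool, ym r (par b) = gl (lr i, b) := fun b => by simp only [gl, hroot]
    have h3 : ∀ t : ZMod 3, t = 0 ∨ t = par false ∨ t = par true := by decide +kernel
    rcases h3 t with e0 | e0 | e0 <;> subst e0
    · rw [ym_zero]; exact one_mem _
    · rw [hx]; exact xk_mem (Nat.zero_le i) hi
    · rw [hx, gl_true (lr_lt i)]; exact mul_mem (xk_mem (Nat.zero_le i) hi) (xk_mem (Nat.zero_le i) hi)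

theorem cube_one_of_scalar {h : Om} (hh : h ∈ Uk 0) (h3 : pj h ^ 3 = 1) : h ^ 3 = 1 := by
  rw [← map_pow] at h3
  obtain ⟨c, hc⟩ := pj_kernel h3
  have hp := pat_of_mem (by omega) (pow_mem hh 3)
  have hii := hp (pos 0) (pos 0) (by decide +kernel)
  rw [hc, Matrix.smul_apply, Matrix.one_apply, if_pos rfl, smul_eq_mul, mul_one] at hii
  refine Subtype.ext (Units.ext ?_)
  rw [hc, hii, one_smul]
  rfl

/-- Every element of order three is conjugate to one of the thirteen. -/
theorem classify {x : T} (h3 : x ^ 3 = 1) (h1 : x ≠ 1) : ∃ c : Fin 13, IsConj x (cl c) := by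
  haveI : Fact (Nat.Prime 3) := ⟨Nat.prime_three⟩
  obtain ⟨y, hy, hyU⟩ := CfsgLib.Chev.chevD4.exists_conj_mem_U (F := ZMod 3) 3 x.2 (k := 1)
    (by rw [pow_one, ← SubmonoidClass.coe_pow, h3, OneMemClass.coe_one])
  obtain ⟨h, hh, e⟩ := posUnipotent_lift (x := (⟨y, hy⟩ : T) * x * (⟨y, hy⟩ : T)⁻¹) hyU
  have hcube : h ^ 3 = 1 := cube_one_of_scalar hh (by rw [e, conj_pow, h3]; group)
  obtain ⟨g, i, hi, s, hs, e2⟩ := cov_all 12 le_rfl h hh hcube
  rw [Uk_twelve hs, mul_one] at e2
  have hxh : IsConj x (pj (gw (repW 12 i))) := isConj_iff.mpr ⟨pj g * ⟨y, hy⟩, by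
    rw [← e2, map_mul, map_mul, map_inv, e]; group⟩
  have hf := List.all_eq_true.mp finals_ok i (List.mem_range.mpr hi)
  unfold finalOK at hf
  cases hlook : finals.getD i none with
  | none =>
    rw [hlook] at hf
    refine absurd ?_ h1
    rw [show gw (repW 12 i) = 1 from gw_of_wEq hf, map_one] at hxh
    exact isConj_one_left.mp hxh
  | some v =>
    obtain ⟨c, w⟩ := v
    rw [hlook] at hf
    simp only [Bool.and_eq_true, decide_eq_true_eq] at hf
    have hw := gw_of_wEq hf.2
    rw [gw_append, gw_append] at hw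
    refine ⟨⟨c, hf.1⟩, hxh.trans (isConj_iff.mpr ⟨(pj (gw (dw w)))⁻¹, ?_⟩)⟩
    rw [cl, inv_inv, ← map_inv, ← map_mul, ← map_mul, mul_assoc, hw, inv_mul_cancel_left]

end CfsgLib.OEightThree
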