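/-
The thirteen classes are distinct, and their images under the symmetries of the diagram.
-/
import Cfsg.Agent.Lib.OEightThree.Tree
import Cfsg.Agent.Lib.OEightThree.Invariant

set_option autoImplicit false
set_option maxRecDepth 100000
set_option maxHeartbeats 800000

namespace CfsgLib.OEightThree

open Cfsg Cfsg.Lie Matrix CfsgLib.ChevClassical

theorem cWord_eq (c : ℕ) : cWord c = sWord c := by unfold cWord sWord; rfl

/-- The node permutation of a symmetry. -/
def nodeMap (s : Fin 6) (i : Fin 4) : Fin 4 := ⟨((diagPerms.getD s.val []).getD i.val 0) % 4, Nat.mod_lt _ (by norm_num)⟩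

/-- The inverse of a symmetry. -/
def invIdx : Fin 6 → Fin 6 := ![0, 2, 1, 3, 4, 5]

theorem nodeMap_inv : ∀ s i, nodeMap (invIdx s) (nodeMap s i) = i ∧ nodeMap s (nodeMap (invIdx s) i) = i := by
  decide +kernel

/-- A symmetry of the diagram. -/
def nodePerm (s : Fin 6) : Equiv.Perm (Fin Cfsg.Lie.chevD4.rank) where
  toFun := (nodeMap s : Fin 4 → Fin 4)
  invFun := (nodeMap (invIdx s) : Fin 4 → Fin 4)
  left_inv i := (nodeMap_inv s i).1
  right_inv i := (nodeMap_inv s i).2

theorem nodePerm_apply (s : Fin 6) (i : Fin 4) : (nodePerm s i).val = (nodeMap s i).val := rfl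

theorem nodePerm_mem (s : Fin 6) :
    nodePerm s ∈ (Chev.Chev.graphHom CfsgLib.Chev.chevD4 (ZMod 3)).range := by
  rw [Chev.Chev.mem_range_graphHom CfsgLib.Chev.chevD4 OutPlus.hA]
  have h : ∀ s : Fin 6, ∃ L ∈ Chev.allowD4, Chev.permList (D := Cfsg.Lie.chevD4) (nodePerm s) = L.1 ∧ L.2 = 0 := by
    decide +kernel
  obtain ⟨L, h1, h2, h3⟩ := h s
  exact ⟨L, h1, h2, Or.inl h3⟩

theorem nodePerm_surj (σ : (Chev.Chev.graphHom CfsgLib.Chev.chevD4 (ZMod 3)).range) : ∃ s, σ.1 = nodePerm s := by
  obtain ⟨L, hL, hσ, -⟩ := (Chev.Chev.mem_range_graphHom CfsgLib.Chev.chevD4 OutPlus.hA).1 σ.2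
  have h : ∀ L ∈ Chev.allowD4, ∃ s : Fin 6, Chev.permList (D := Cfsg.Lie.chevD4) (nodePerm s) = L.1 := by
    decide +kernel
  obtain ⟨s, hs⟩ := h L hL
  refine ⟨s, Equiv.ext fun i => Fin.ext ?_⟩
  rw [← Chev.permList_getD σ.1 i, ← Chev.permList_getD (nodePerm s) i, hσ, hs]

/-- The symmetry as an automorphism. -/
noncomputable def tau (s : Fin 6) : MulAut T := OutPlus.gAut ⟨nodePerm s, nodePerm_mem s⟩

theorem simple_root : ∀ i : Fin 4, (CfsgLib.Chev.chevD4.p i).val = [18, 14, 13, 12].getD i.val 0 := by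
  decide +kernel

/-- The image of a class under a symmetry, as a word. -/
def pWord (s : Fin 6) (c : ℕ) : List Letter :=
  (classWords.getD c []).map fun j => ([18, 14, 13, 12].getD ((diagPerms.getD s.val []).getD (j / 2) 0) 0, j % 2 == 1)

theorem tau_letter (s : Fin 6) (i : Fin 4) (b : Bool) :
    tau s (pj (gl ([18, 14, 13, 12].getD i.val 0, b))) =
      pj (gl ([18, 14, 13, 12].getD (nodeMap s i).val 0, b)) := by
  have hr : ∀ i : Fin 4, root ([18, 14, 13, 12].getD i.val 0) = CfsgLib.Chev.chevD4.p i := fun i => by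
    rw [← simple_root i]
    exact dif_pos (show (CfsgLib.Chev.chevD4.p i).val < 24 from (CfsgLib.Chev.chevD4.p i).isLt)
  simp only [gl, hr, pj_ym]
  exact (OutPlus.gAut_eg ⟨nodePerm s, nodePerm_mem s⟩ i (par b)).1

theorem word_range : ∀ c : Fin 13, ∀ j ∈ classWords.getD c.val [], j < 8 := by decide +kernel

theorem perm_range : ∀ s : Fin 6, ∀ i : Fin 4, (diagPerms.getD s.val []).getD i.val 0 < 4 := by decide +kernel

theorem tau_cl (s : Fin 6) (c : Fin 13) : tau s (cl c) = pj (gw (pWord s c.val)) := by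
  rw [cl, sWord, pWord]
  have h := word_range c
  revert h
  generalize classWords.getD c.val [] = l
  intro h
  induction l with
  | nil => simp [gw]
  | cons j l ih =>
    simp only [List.map_cons]
    rw [show ∀ (a : Letter) (w : List Letter), gw (a :: w) = gl a * gw w from fun a w => rfl,
      show ∀ (a : Letter) (w : List Letter), gw (a :: w) = gl a * gw w from fun a w => rfl, map_mul, map_mul,
      map_mul, ih (fun k hk => h k (List.mem_cons_of_mem _ hk))]
    have hj := h j List.mem_cons_self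
    congr 1
    have := tau_letter s ⟨j / 2, by omega⟩ (j % 2 == 1)
    simp only [nodeMap] at this
    rwa [Nat.mod_eq_of_lt (perm_range s ⟨j / 2, by omega⟩)] at this

/-- The class of the image of a class under a symmetry. -/
def img (s : Fin 6) (c : Fin 13) : Fin 13 :=
  ⟨((images.getD s.val []).getD c.val (0, [])).1 % 13, Nat.mod_lt _ (by norm_num)⟩

/-- The checks of the images and of the squares. -/
def imgOK : Bool :=
  ((List.finRange 6).all fun s => (List.finRange 13).all fun c =>
    let w := dw ((images.getD s.val []).getD c.val (0, [])).2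
    wEq (pWord s c.val ++ w) (w ++ sWord (img s c).val)) &&
  ((List.finRange 13).all fun c =>
    wEq (sWord c.val ++ sWord c.val ++ dw (squares.getD c.val [])) (dw (squares.getD c.val []) ++ sWord c.val) &&
    wEq (sWord c.val ++ sWord c.val ++ sWord c.val) [])

theorem img_ok : imgOK = true := by decide +kernel

theorem tau_class (s : Fin 6) (c : Fin 13) : IsConj (tau s (cl c)) (cl (img s c)) := by
  have h := img_ok
  simp only [imgOK, Bool.and_eq_true] at h
  have h1 := gw_of_wEq (List.all_eq_true.mp (List.all_eq_true.mp h.1 s (List.mem_finRange s)) c (List.mem_finRange c))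
  rw [gw_append, gw_append] at h1
  refine isConj_iff.mpr ⟨(pj (gw (dw ((images.getD s.val []).getD c.val (0, [])).2)))⁻¹, ?_⟩
  rw [tau_cl, cl, inv_inv, ← map_inv, ← map_mul, ← map_mul, mul_assoc, h1, inv_mul_cancel_left]

theorem cl_square (c : Fin 13) : IsConj (cl c * cl c) (cl c) := by
  have h := img_ok
  simp only [imgOK, Bool.and_eq_true] at h
  have h0 := List.all_eq_true.mp h.2 c (List.mem_finRange c)
  simp only [Bool.and_eq_true] at h0
  have h1 := gw_of_wEq h0.1
  rw [gw_append, gw_append, gw_append] at h1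
  refine isConj_iff.mpr ⟨(pj (gw (dw (squares.getD c.val []))))⁻¹, ?_⟩
  rw [cl, inv_inv, ← map_inv, ← map_mul, ← map_mul, ← map_mul, mul_assoc, h1, inv_mul_cancel_left]

theorem gw_cube (c : Fin 13) : gw (sWord c.val) ^ 3 = 1 := by
  have h := img_ok
  simp only [imgOK, Bool.and_eq_true] at h
  have h0 := List.all_eq_true.mp h.2 c (List.mem_finRange c)
  simp only [Bool.and_eq_true] at h0
  have h1 := gw_of_wEq h0.2
  rw [gw_append, gw_append] at h1
  rw [pow_succ, pow_two, h1]
  simp [gw]

theorem cl_cube (c : Fin 13) : cl c ^ 3 = 1 := by rw [cl, ← map_pow, gw_cube, map_one]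

theorem cl_ne_one (c : Fin 13) : cl c ≠ 1 := by
  intro h
  obtain ⟨a, ha⟩ := pj_kernel h
  have h3 := congrArg (fun g : Om => (g.1 : Matrix I I (ZMod 3))) (gw_cube c)
  simp only [Subgroup.coe_pow, Units.val_pow_eq_pow_val, OneMemClass.coe_one, Units.val_one] at h3
  rw [ha, _root_.smul_pow, one_pow] at h3
  have ha1 : a = 1 := by
    have hall : ∀ a : ZMod 3, a ^ 3 = 1 → a = 1 := by decide +kernel
    refine hall a ?_
    have := congrFun (congrFun h3 (pos 0)) (pos 0)
    rwa [Matrix.smul_apply, Matrix.one_apply_eq, smul_eq_mul, mul_one] at this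
  rw [ha1, one_smul] at ha
  have hne : ∀ c : Fin 13, evalW (sWord c.val) ≠ I0 ∧ wordOK (sWord c.val) = true ∧
      (∃ a b : Fin 8, tri (dig ((evalW (sWord c.val)).getD a.val 0) b.val) ≠ tri (dig (I0.getD a.val 0) b.val)) := by
    decide +kernel
  obtain ⟨-, hw, i, j, hij⟩ := hne c
  have e := congrFun (congrFun (((evalW_spec _ hw).1.trans ha).trans dec_I0.symm) (pos i.val)) (pos j.val)
  simp only [dec, num_pos _ i.isLt, num_pos _ j.isLt] at e
  exact hij e

/-- The separation check. -/
def sepOK : Bool :=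
  (List.finRange 13).all fun i => (List.finRange 13).all fun j => decide (i = j) ||
    (List.finRange 6).any fun s => (List.finRange 5).any fun k => sig (img s i).val k != sig (img s j).val k

theorem sep_ok : sepOK = true := by decide +kernel

theorem cl_sig {a b : Fin 13} (h : IsConj (cl a) (cl b)) (k : Fin 5) : sig a.val k = sig b.val k := by
  obtain ⟨x, hx⟩ := isConj_iff.mp h
  obtain ⟨g, rfl⟩ := pj_surjective x
  rw [cl, cl, ← map_inv, ← map_mul, ← map_mul] at hx
  obtain ⟨c, hc⟩ := pj_kernel (h := g * gw (sWord a.val) * g⁻¹ * (gw (sWord b.val))⁻¹)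
    (by rw [map_mul, map_inv, hx, mul_inv_cancel])
  set z := g * gw (sWord a.val) * g⁻¹ * (gw (sWord b.val))⁻¹ with hz
  have hzc : Commute z (gw (sWord b.val)) := by
    refine Subtype.ext (Units.ext ?_)
    show (z.1 : Matrix I I (ZMod 3)) * _ = _ * (z.1 : Matrix I I (ZMod 3))
    rw [hc]; simp
  have e : g * gw (sWord a.val) * g⁻¹ = z * gw (sWord b.val) := by rw [hz]; group
  have h3 := congrArg (· ^ 3) e
  simp only [conj_pow, hzc.mul_pow, gw_cube, mul_one, mul_inv_cancel] at h3
  have h3' := congrArg (fun g : Om => (g.1 : Matrix I I (ZMod 3))) h3.symm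
  simp only [Subgroup.coe_pow, Units.val_pow_eq_pow_val, OneMemClass.coe_one, Units.val_one] at h3'
  rw [hc, _root_.smul_pow, one_pow] at h3'
  have hc1 : c = 1 := by
    have hall : ∀ a : ZMod 3, a ^ 3 = 1 → a = 1 := by decide +kernel
    refine hall c ?_
    have := congrFun (congrFun h3' (pos 0)) (pos 0)
    rwa [Matrix.smul_apply, Matrix.one_apply_eq, smul_eq_mul, mul_one] at this
  have hz1 : z = 1 := Subtype.ext (Units.ext (by rw [hc, hc1, one_smul]; rfl))
  rw [hz1, one_mul] at e
  have := pred_iff_of_conj k e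
  rw [← cWord_eq, ← cWord_eq, pred_sig a.val a.isLt, pred_sig b.val b.isLt] at this
  exact Bool.eq_iff_iff.mpr this

/-- The thirteen classes are distinct. -/
theorem cl_inj {a b : Fin 13} (h : IsConj (cl a) (cl b)) : a = b := by
  by_contra hne
  have hs := List.all_eq_true.mp (List.all_eq_true.mp sep_ok a (List.mem_finRange a)) b (List.mem_finRange b)
  rw [decide_eq_false hne, Bool.false_or, List.any_eq_true] at hs
  obtain ⟨s, -, hs⟩ := hs
  rw [List.any_eq_true] at hs
  obtain ⟨k, -, hk⟩ := hs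
  exact bne_iff_ne.mp hk (cl_sig ((tau_class s a).symm.trans (((tau s).toMonoidHom.map_isConj h).trans (tau_class s b))) k)

/-- Equal cyclic subgroups of order three have conjugate generators. -/
theorem isConj_of_mem_zpowers {a : Fin 13} {x : T} (hx : x ∈ Subgroup.zpowers (cl a)) (hx1 : x ≠ 1) :
    IsConj x (cl a) := by
  obtain ⟨n, rfl⟩ := Subgroup.mem_zpowers_iff.mp hx
  have ho : orderOf (cl a) = 3 := by
    haveI : Fact (Nat.Prime 3) := ⟨Nat.prime_three⟩
    exact orderOf_eq_prime (cl_cube a) (cl_ne_one a)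
  rw [← zpow_mod_orderOf, ho] at hx1 ⊢
  have h0 : 0 ≤ n % ((3 : ℕ) : ℤ) := Int.emod_nonneg _ (by norm_num)
  have h1 : n % ((3 : ℕ) : ℤ) < 3 := Int.emod_lt_of_pos _ (by norm_num)
  generalize n % ((3 : ℕ) : ℤ) = m at hx1 h0 h1 ⊢
  interval_cases m
  · simp at hx1
  · rw [zpow_one]
  · rw [zpow_two]; exact cl_square a

end CfsgLib.OEightThree
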