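/-
Subgroups of order three of `PΩ⁺₈(3)` and of its extension by the symmetric group of degree three.
-/
import Cfsg.Agent.Lib.OEightThree.Fusion
import Cfsg.Agent.S5515

set_option autoImplicit false
set_option maxRecDepth 100000
set_option maxHeartbeats 800000

namespace CfsgLib.OEightThree

open Cfsg Cfsg.Lie Matrix

/-- Conjugation by an element. -/
noncomputable def cjT (u : T) : MulAut T := MulAut.conj (G := T) u

theorem cjT_apply (u v : T) : cjT u v = u * v * u⁻¹ := rfl

theorem gamma_tau (s : Fin 6) : OutPlus.gamma ⟨nodePerm s, nodePerm_mem s⟩ = QuotientGroup.mk' (Cfsg.Inn T) (tau s) :=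
  rfl

theorem mk_cjT (u : T) : QuotientGroup.mk' (Cfsg.Inn T) (cjT u) = 1 := (QuotientGroup.eq_one_iff _).mpr ⟨u, rfl⟩

theorem isConj_aut {X : Type*} [Group X] (f : MulAut X) {a b : X} (h : IsConj a b) : IsConj (f a) (f b) :=
  f.toMonoidHom.map_isConj h

theorem mul_aut_apply {X : Type*} [Group X] (f g : MulAut X) (a : X) : (f * g) a = f (g a) := rfl

theorem isConj_cjT (u v : T) : IsConj v (cjT u v) := isConj_iff.mpr ⟨u, (cjT_apply u v).symm⟩

theorem cjT_def (u : T) : cjT u = MulAut.conj (G := T) u := rfl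

theorem two_ne : (2 : ZMod 3) ≠ 0 := by decide +kernel

attribute [local irreducible] cl img tau cjT

theorem conj_injective_of_simple {X : Type*} [Group X] [IsSimpleGroup X] (h : ¬ IsMulCommutative X) :
    Function.Injective ⇑(MulAut.conj (G := X)) := by
  rw [← MonoidHom.ker_eq_bot_iff]
  rcases Subgroup.Normal.eq_bot_or_eq_top (H := (MulAut.conj (G := X)).ker) inferInstance with h' | h'
  · exact h'
  · exfalso
    refine h ⟨⟨fun a b => ?_⟩⟩
    have ha : MulAut.conj (G := X) a = 1 := by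
      rw [← MonoidHom.mem_ker, h']
      exact Subgroup.mem_top a
    have := DFunLike.congr_fun ha b
    rw [MulAut.conj_apply, MulAut.one_apply] at this
    calc a * b = a * b * a⁻¹ * a := by group
      _ = b * a := by rw [this]

theorem t_conj_injective : Function.Injective ⇑(MulAut.conj (G := T)) :=
  @conj_injective_of_simple T _ t_simple.1 t_simple.2

theorem conj_gen_of_map {X : Type*} [Group X] {g a b : X}
    (h : (Subgroup.zpowers a).map (MulAut.conj g).toMonoidHom = Subgroup.zpowers b) :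
    g * a * g⁻¹ ∈ Subgroup.zpowers b := by
  rw [← h]
  exact ⟨a, Subgroup.mem_zpowers a, rfl⟩

theorem map_conj_zpowers {X : Type*} [Group X] (g a : X) :
    (Subgroup.zpowers a).map (MulAut.conj g).toMonoidHom = Subgroup.zpowers (g * a * g⁻¹) := by
  rw [MonoidHom.map_zpowers]; rfl

/-- The groups of order three through the classes. -/
noncomputable def clSub (c : Fin 13) : Subgroup T := Subgroup.zpowers (cl c)

theorem card_zpowers_three {X : Type*} [Group X] {x : X} (h3 : x ^ 3 = 1) (h1 : x ≠ 1) :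
    Nat.card (Subgroup.zpowers x) = 3 := by
  haveI : Fact (Nat.Prime 3) := ⟨Nat.prime_three⟩
  rw [Nat.card_zpowers, orderOf_eq_prime h3 h1]

theorem exists_gen {X : Type*} [Group X] (Y : Subgroup X) (hY : Nat.card Y = 3) :
    ∃ x : X, x ^ 3 = 1 ∧ x ≠ 1 ∧ Subgroup.zpowers x = Y := by
  haveI : Fact (Nat.Prime 3) := ⟨Nat.prime_three⟩
  haveI : Finite Y := Nat.finite_of_card_ne_zero (by omega)
  obtain ⟨x, hx⟩ := exists_prime_orderOf_dvd_card' (G := Y) 3 (by rw [hY])
  refine ⟨x, ?_, ?_, ?_⟩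
  · have := congrArg Subtype.val (pow_orderOf_eq_one x)
    rwa [hx, SubmonoidClass.coe_pow] at this
  · intro h
    rw [show x = 1 from Subtype.ext h, orderOf_one] at hx
    omega
  · exact Subgroup.eq_of_le_of_card_ge (Subgroup.zpowers_le.mpr x.2)
      (by rw [Nat.card_zpowers, Subgroup.orderOf_coe, hx, hY])

/-- The classes of subgroups of order three. -/
theorem classes_T : (∀ c, Nat.card (clSub c) = 3) ∧
    (∀ a b, (∃ g : T, (clSub a).map (MulAut.conj (G := T) g).toMonoidHom = clSub b) → a = b) ∧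
    ∀ X : Subgroup T, Nat.card X = 3 → ∃ c, ∃ g : T, X.map (MulAut.conj (G := T) g).toMonoidHom = clSub c := by
  refine ⟨fun c => card_zpowers_three (cl_cube c) (cl_ne_one c), fun a b ⟨g, hg⟩ => ?_, fun X hX => ?_⟩
  · have hmem : g * cl a * g⁻¹ ∈ Subgroup.zpowers (cl b) := conj_gen_of_map hg
    refine cl_inj ((isConj_iff.mpr ⟨g, rfl⟩).trans (isConj_of_mem_zpowers hmem fun h => cl_ne_one a ?_))
    exact conj_eq_one_iff.mp h
  · obtain ⟨x, h3, h1, rfl⟩ := exists_gen X hX
    obtain ⟨c, hc⟩ := classify h3 h1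
    obtain ⟨g, hg⟩ := isConj_iff.mp hc
    exact ⟨c, g, by rw [map_conj_zpowers, clSub, hg]⟩

/-- The representatives for the extension. -/
def seven : Fin 7 → Fin 13 := ![0, 1, 2, 3, 8, 9, 12]

theorem seven_cover : ∀ c : Fin 13, ∃ s : Fin 6, ∃ r : Fin 7, img s (seven r) = c := by decide +kernel

theorem seven_sep : ∀ r r' : Fin 7, ∀ s : Fin 6, img s (seven r) = seven r' → r = r' := by decide +kernel

/-- The classes of the graph automorphisms. -/
noncomputable def H0 : Subgroup (Cfsg.Out T) := (OutPlus.gamma (F := ZMod 3)).range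

theorem card_H0 : Nat.card H0 = 6 := by
  have hinj : Function.Injective (OutPlus.gamma (F := ZMod 3)) := fun a b h => Subtype.ext (by
    rw [← OutPlus.graphHom_gamma a, h, OutPlus.graphHom_gamma])
  rw [H0, ← Nat.card_congr (MonoidHom.ofInjective hinj).toEquiv, OutPlus.card_graph]

theorem out_T : Nonempty (Cfsg.Out T ≃* Equiv.Perm (Fin 4)) := by
  haveI : Fact (Nat.Prime 3) := ⟨Nat.prime_three⟩
  obtain ⟨e2⟩ := OutPlus.split (F := ZMod 3)
  obtain ⟨e4⟩ := OutPlus.dg_odd (F := ZMod 3) two_ne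
  have h := (Chev.ringAut_cyclic_card (F := ZMod 3) 3 (f := 1) (by rw [Nat.card_zmod, pow_one])).2
  haveI : Subsingleton (RingAut (ZMod 3)) := (Nat.card_eq_one_iff_unique.mp h).1
  exact ⟨e2.trans ({ toFun := fun x => e4 x.1, invFun := fun x => (e4.symm x, 1),
                     left_inv := fun x => Prod.ext (e4.symm_apply_apply _) (Subsingleton.elim _ _),
                     right_inv := fun x => e4.apply_symm_apply x,
                     map_mul' := fun x y => map_mul e4 x.1 y.1 } : OutPlus.dgSub (ZMod 3) × RingAut (ZMod 3) ≃* Equiv.Perm (Fin 4))⟩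

theorem tau_mem (s : Fin 6) : tau s ∈ H0.comap (QuotientGroup.mk' (Cfsg.Inn T)) :=
  ⟨⟨nodePerm s, nodePerm_mem s⟩, gamma_tau s⟩

theorem exists_tau {ψ : MulAut T} (h : ψ ∈ H0.comap (QuotientGroup.mk' (Cfsg.Inn T))) :
    ∃ s u, ψ = tau s * cjT u := by
  obtain ⟨σ, hσ⟩ := h
  obtain ⟨s, hs⟩ := nodePerm_surj σ
  obtain rfl : σ = ⟨nodePerm s, nodePerm_mem s⟩ := Subtype.ext hs
  rw [gamma_tau] at hσ
  obtain ⟨u, hu⟩ : (tau s)⁻¹ * ψ ∈ Cfsg.Inn T := QuotientGroup.eq.mp hσ
  exact ⟨s, u, by rw [cjT_def, hu, mul_inv_cancel_left]⟩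

theorem embed_conj {G : Type*} [Group G] [Finite G] {X : Type*} [Group X] [Finite X]
    (hT : Function.Injective (MulAut.conj : X →* MulAut X)) (L : Subgroup G) [L.Normal]
    (hL : L = Cfsg.generalizedFittingSubgroup G) (e : ↥L ≃* X) :
    ∃ φ : G →* MulAut X, (∀ g (l : L), φ g (e l) = e (MulAut.conjNormal g l)) ∧
      ∃ H : Subgroup (Cfsg.Out X), φ.range = H.comap (QuotientGroup.mk' (Cfsg.Inn X)) ∧
        Nat.card H = Nat.card (G ⧸ L) := by
  let φ : G →* MulAut X := (MulAut.congr e).toMonoidHom.comp MulAut.conjNormal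
  have hφ : ∀ g (l : L), φ g (e l) = e (MulAut.conjNormal g l) := fun g l => by
    show e (MulAut.conjNormal g (e.symm (e l))) = _
    rw [e.symm_apply_apply]
  have hφL : ∀ l : L, φ l = MulAut.conj (e l) := fun l =>
    MulEquiv.ext fun x => by
      show e (MulAut.conjNormal (l : G) (e.symm x)) = e l * x * (e l)⁻¹
      rw [show MulAut.conjNormal (l : G) (e.symm x) = l * e.symm x * l⁻¹ from
        Subtype.ext (MulAut.conjNormal_apply _ _), map_mul, map_mul, map_inv, e.apply_symm_apply]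
  have hinj : Function.Injective φ := (injective_iff_map_eq_one φ).mpr fun g hg => by
    have hcomm : g ∈ Subgroup.centralizer (Cfsg.generalizedFittingSubgroup G : Set G) := fun l hl => by
      have h := hφ g ⟨l, hL ▸ hl⟩
      rw [hg] at h
      have h'' := congrArg Subtype.val (e.injective h)
      rw [MulAut.conjNormal_apply] at h''
      exact (mul_inv_eq_iff_eq_mul.mp h''.symm).symm
    have hgL : g ∈ L := hL ▸ CfsgLib.centralizer_generalizedFitting_le hcomm
    have h2 := (hφL ⟨g, hgL⟩).symm.trans hg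
    have h3 : e ⟨g, hgL⟩ = e 1 := by rw [hT (h2.trans (map_one MulAut.conj).symm), map_one]
    exact congrArg Subtype.val (e.injective h3)
  let ψ : G →* Cfsg.Out X := (QuotientGroup.mk' (Cfsg.Inn X)).comp φ
  have hker : ψ.ker = L := by
    refine le_antisymm (fun g hg => ?_) fun g hg => ?_
    · obtain ⟨t, ht⟩ := (QuotientGroup.eq_one_iff (φ g)).mp hg
      have h1 : φ g = φ (e.symm t : G) := by rw [hφL, e.apply_symm_apply]; exact ht.symm
      rw [hinj h1]
      exact (e.symm t).2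
    · exact (QuotientGroup.eq_one_iff (φ g)).mpr ⟨_, (hφL ⟨g, hg⟩).symm⟩
  refine ⟨φ, hφ, ψ.range, le_antisymm (by rintro _ ⟨g, rfl⟩; exact ⟨g, rfl⟩) ?_, ?_⟩
  · rintro β ⟨g, hg⟩
    obtain ⟨t, ht⟩ := (QuotientGroup.eq (s := Cfsg.Inn X)).mp hg
    refine ⟨g * (e.symm t : G), ?_⟩
    rw [map_mul, hφL, e.apply_symm_apply, ht, mul_inv_cancel_left]
  · rw [← Nat.card_congr (QuotientGroup.quotientKerEquivRange ψ).toEquiv, hker]

/-- The statement. -/
theorem order_three_classes {G : Type*} [Group G] [Finite G] (L : Subgroup G) (hL : L = Cfsg.generalizedFittingSubgroup G)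
    (hF : Nonempty (↥L ≃* Cfsg.POmega (ZMod 3) (Cfsg.quadFormPlus 4 (ZMod 3)))) [hn : L.Normal]
    (hq : Nonempty (G ⧸ L ≃* Equiv.Perm (Fin 3))) :
    (∃ Y : Fin 13 → Subgroup (Cfsg.POmega (ZMod 3) (Cfsg.quadFormPlus 4 (ZMod 3))), (∀ i, Nat.card (Y i) = 3) ∧
      (∀ i j, (∃ g : Cfsg.POmega (ZMod 3) (Cfsg.quadFormPlus 4 (ZMod 3)), (Y i).map (MulAut.conj g).toMonoidHom = Y j) → i = j) ∧
      (∀ X : Subgroup (Cfsg.POmega (ZMod 3) (Cfsg.quadFormPlus 4 (ZMod 3))), Nat.card X = 3 →
        ∃ i, ∃ g : Cfsg.POmega (ZMod 3) (Cfsg.quadFormPlus 4 (ZMod 3)), X.map (MulAut.conj g).toMonoidHom = Y i)) ∧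
    ∃ Y : Fin 7 → Subgroup G, (∀ i, Y i ≤ L ∧ Nat.card (Y i) = 3) ∧
      (∀ i j, (∃ g : G, (Y i).map (MulAut.conj g).toMonoidHom = Y j) → i = j) ∧
      ∀ X : Subgroup G, X ≤ L → Nat.card X = 3 → ∃ i, ∃ g : G, X.map (MulAut.conj g).toMonoidHom = Y i := by
  obtain ⟨e1⟩ := OutPlus.d4_equiv (F := ZMod 3)
  obtain ⟨hcard, hdist, hcov⟩ := classes_T
  refine ⟨⟨fun i => (clSub i).map e1.toMonoidHom, fun i => ?_, fun i j ⟨g, hg⟩ => ?_, fun X hX => ?_⟩, ?_⟩
  · rw [Subgroup.card_map_of_injective (f := e1.toMonoidHom) e1.injective, hcard]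
  · refine hdist i j ⟨e1.symm g, Subgroup.map_injective (f := e1.toMonoidHom) e1.injective ?_⟩
    refine Eq.trans ?_ hg
    simp only [Subgroup.map_map]
    congr 1
    exact MonoidHom.ext fun x => by simp
  · obtain ⟨c, g, hg⟩ := hcov (X.map e1.symm.toMonoidHom)
      (by rw [Subgroup.card_map_of_injective (f := e1.symm.toMonoidHom) e1.symm.injective, hX])
    refine ⟨c, e1 g, ?_⟩
    show _ = (clSub c).map e1.toMonoidHom
    rw [← hg, Subgroup.map_map, Subgroup.map_map]
    congr 1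
    exact MonoidHom.ext fun x => by simp
  obtain ⟨eL⟩ := hF
  set eT : ↥L ≃* T := eL.trans e1.symm with heT
  obtain ⟨φ, hφ, H, hH, hHc⟩ := embed_conj t_conj_injective L hL eT
  obtain ⟨π⟩ := out_T
  obtain ⟨σ, hσ⟩ := Cfsg.Agent.S5515.conj_six (H := H0.map π.toMonoidHom) (K := H.map π.toMonoidHom)
    (by rw [Subgroup.card_map_of_injective π.injective, card_H0])
    (by rw [Subgroup.card_map_of_injective π.injective, hHc, Nat.card_congr hq.some.toEquiv, Nat.card_perm,
      Nat.card_fin]; rfl)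
  obtain ⟨β, hβ⟩ := QuotientGroup.mk_surjective (π.symm σ)
  have hπ : π (QuotientGroup.mk β) = σ := by rw [hβ, π.apply_symm_apply]
  have key : (H0.comap (QuotientGroup.mk' (Cfsg.Inn T))).map (MulAut.conj β).toMonoidHom = φ.range := by
    rw [hH]; exact Cfsg.Agent.S5515.map_comap_conj π H0 H β σ hπ hσ
  let y : Fin 7 → G := fun r => (eT.symm (β (cl (seven r))) : G)
  have hy : ∀ r (g : G), eT (MulAut.conjNormal g (eT.symm (β (cl (seven r))))) = φ g (β (cl (seven r))) := fun r g => by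
    rw [← hφ, eT.apply_symm_apply]
  have hy3 : ∀ r, y r ^ 3 = 1 ∧ y r ≠ 1 := fun r => by
    refine ⟨?_, fun h => cl_ne_one (seven r) ?_⟩
    · show (eT.symm (β (cl (seven r))) : G) ^ 3 = 1
      rw [← SubmonoidClass.coe_pow, ← map_pow, ← map_pow, cl_cube, map_one, map_one]
      rfl
    · exact β.injective (eT.symm.injective ((Subtype.ext h : eT.symm (β (cl (seven r))) = 1).trans
        (by rw [map_one, map_one])))
  refine ⟨fun r => Subgroup.zpowers (y r), fun r => ⟨Subgroup.zpowers_le.mpr (eT.symm _).2,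
    card_zpowers_three (hy3 r).1 (hy3 r).2⟩, fun r r' ⟨g, hg⟩ => ?_, fun X hXL hX => ?_⟩
  · have hmem : g * y r * g⁻¹ ∈ Subgroup.zpowers (y r') := conj_gen_of_map hg
    obtain ⟨n, hn'⟩ := Subgroup.mem_zpowers_iff.mp hmem
    have hn2 : (eT.symm (β (cl (seven r')))) ^ n = MulAut.conjNormal g (eT.symm (β (cl (seven r)))) :=
      Subtype.ext (by rw [MulAut.conjNormal_apply, SubgroupClass.coe_zpow]; exact hn')
    have hn3 := congrArg eT hn2
    rw [map_zpow, eT.apply_symm_apply, hy] at hn3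
    have hψ : β⁻¹ * φ g * β ∈ H0.comap (QuotientGroup.mk' (Cfsg.Inn T)) := by
      have hm : φ g ∈ φ.range := ⟨g, rfl⟩
      rw [← key] at hm
      obtain ⟨ψ, hψ, e⟩ := hm
      rwa [← e, show β⁻¹ * (MulAut.conj β).toMonoidHom ψ * β = ψ by
        show β⁻¹ * (β * ψ * β⁻¹) * β = ψ
        group]
    obtain ⟨s, u, hsu⟩ := exists_tau hψ
    have hval : (β⁻¹ * φ g * β : MulAut T) (cl (seven r)) = cl (seven r') ^ n := by
      show β⁻¹ (φ g (β (cl (seven r)))) = _
      rw [← hn3, map_zpow]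
      exact congrArg (· ^ n) (β.symm_apply_apply _)
    have hne : cl (seven r') ^ n ≠ 1 := by
      rw [← hval]
      intro h
      exact cl_ne_one (seven r) ((map_eq_one_iff _ (MulEquiv.injective _)).mp h)
    have hc := isConj_of_mem_zpowers (Subgroup.mem_zpowers_iff.mpr ⟨n, rfl⟩) hne
    rw [← hval, hsu] at hc
    have hc2 : IsConj (tau s (cl (seven r))) ((tau s * cjT u) (cl (seven r))) := by
      rw [mul_aut_apply, cjT_apply]
      exact isConj_iff.mpr ⟨tau s u, by rw [map_mul, map_mul, map_inv]⟩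
    exact seven_sep r r' s (cl_inj ((tau_class s (seven r)).symm.trans (hc2.trans hc)))
  · obtain ⟨x, h3, h1, rfl⟩ := exists_gen X hX
    have hxL : x ∈ L := Subgroup.zpowers_le.mp hXL
    set t0 : T := β⁻¹ (eT ⟨x, hxL⟩) with ht0
    have ht3 : t0 ^ 3 = 1 := by
      rw [ht0, ← map_pow, ← map_pow, show (⟨x, hxL⟩ : L) ^ 3 = 1 from Subtype.ext h3, map_one, map_one]
    have ht1 : t0 ≠ 1 := fun h => h1 (by
      have := congrArg Subtype.val (eT.injective ((β⁻¹ : MulAut T).injective (h.trans (map_one _).symm) |>.trans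
        (map_one eT).symm))
      exact this)
    obtain ⟨c, hc⟩ := classify ht3 ht1
    obtain ⟨s, r, hsr⟩ := seven_cover c
    rw [← hsr] at hc
    obtain ⟨v, hv⟩ := isConj_iff.mp (hc.trans (tau_class s (seven r)).symm)
    have hmem : β * ((tau s)⁻¹ * cjT v) * β⁻¹ ∈ φ.range := by
      rw [← key]
      refine ⟨(tau s)⁻¹ * cjT v, mul_mem (inv_mem (tau_mem s)) ?_, rfl⟩
      rw [Subgroup.mem_comap, mk_cjT]
      exact one_mem _
    obtain ⟨g, hg⟩ := hmem
    refine ⟨r, g, ?_⟩
    rw [map_conj_zpowers]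
    congr 1
    have hgx : φ g (eT ⟨x, hxL⟩) = β (cl (seven r)) := by
      rw [hg]
      rw [mul_aut_apply, mul_aut_apply, mul_aut_apply, ← ht0]
      rw [cjT_apply, hv]
      exact congrArg β ((tau s).symm_apply_apply _)
    rw [hφ] at hgx
    have := congrArg (fun z => (eT.symm z : G)) hgx
    simp only [MulEquiv.symm_apply_apply, MulAut.conjNormal_apply] at this
    exact this

end CfsgLib.OEightThree
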